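import Mathlib

set_option autoImplicit false

/-!
# Radical `p`-subgroups: a normaliser-growth lemma
-/

namespace Cfsg.Agent.Lib.Helper47.DefChar

section

variable {G : Type*} [Group G] [Finite G] {p : ℕ} [Fact p.Prime]

/-- if `D` normalises the `p`-group `R` and `R ∩ N(D) ≤ D`, then `R ≤ D` -/
theorem le_of_inf_normalizer_le {D R : Subgroup G} (hD : IsPGroup p D) (hR : IsPGroup p R)
    (hDR : D ≤ Subgroup.normalizer (R : Set G))
    (hinf : R ⊓ Subgroup.normalizer (D : Set G) ≤ D) : R ≤ D := by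
  have hQ : IsPGroup p (D ⊔ R : Subgroup G) := hD.to_sup_of_normal_right' hR hDR
  have hnil : Group.IsNilpotent (D ⊔ R : Subgroup G) := hQ.isNilpotent
  have hnc := Group.normalizerCondition_of_isNilpotent (G := (D ⊔ R : Subgroup G))
  by_cases htop : D.subgroupOf (D ⊔ R) = ⊤
  · rw [Subgroup.subgroupOf_eq_top] at htop
    exact le_trans le_sup_right htop
  · exfalso
    have hlt : D.subgroupOf (D ⊔ R) < ⊤ := lt_top_iff_ne_top.mpr htop
    have hlt' := hnc _ hlt
    obtain ⟨y, hyN, hyD⟩ := SetLike.exists_of_lt hlt'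
    have hyQ : (y : G) ∈ ((D ⊔ R : Subgroup G) : Set G) := y.2
    rw [Subgroup.coe_mul_of_left_le_normalizer_right D R hDR] at hyQ
    obtain ⟨d, hd, r, hr, hdr⟩ := hyQ
    have hd' : d ∈ D := hd
    have hr' : r ∈ R := hr
    have hrQ : r ∈ (D ⊔ R : Subgroup G) := (le_sup_right : R ≤ D ⊔ R) hr'
    have hdQ : d ∈ (D ⊔ R : Subgroup G) := (le_sup_left : D ≤ D ⊔ R) hd'
    rw [Subgroup.mem_normalizer_iff] at hyN
    have hrN : r ∈ Subgroup.normalizer (D : Set G) := by
      rw [Subgroup.mem_normalizer_iff]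
      intro z
      have hr_eq : r = d⁻¹ * (y : G) := by rw [← hdr]; group
      constructor
      · intro hz
        have hzQ : z ∈ (D ⊔ R : Subgroup G) := (le_sup_left : D ≤ D ⊔ R) hz
        have h1 := (hyN ⟨z, hzQ⟩).mp (Subgroup.mem_subgroupOf.mpr hz)
        rw [Subgroup.mem_subgroupOf] at h1
        have h2 : ((y * ⟨z, hzQ⟩ * y⁻¹ : (D ⊔ R : Subgroup G)) : G) = (y : G) * z * (y : G)⁻¹ := rfl
        rw [h2] at h1
        have h3 : r * z * r⁻¹ = d⁻¹ * ((y : G) * z * (y : G)⁻¹) * d := by rw [hr_eq]; group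
        rw [h3]
        exact D.mul_mem (D.mul_mem (D.inv_mem hd') h1) hd'
      · intro hz
        have hzQ' : r * z * r⁻¹ ∈ (D ⊔ R : Subgroup G) := (le_sup_left : D ≤ D ⊔ R) hz
        have hzQ : z ∈ (D ⊔ R : Subgroup G) := by
          have : z = r⁻¹ * (r * z * r⁻¹) * r := by group
          rw [this]
          exact Subgroup.mul_mem _ (Subgroup.mul_mem _ (Subgroup.inv_mem _ hrQ) hzQ') hrQ
        have h1 := (hyN ⟨z, hzQ⟩).mpr
        rw [Subgroup.mem_subgroupOf, Subgroup.mem_subgroupOf] at h1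
        apply h1
        have h2 : ((y * ⟨z, hzQ⟩ * y⁻¹ : (D ⊔ R : Subgroup G)) : G) = (y : G) * z * (y : G)⁻¹ := rfl
        rw [h2]
        have h3 : (y : G) * z * (y : G)⁻¹ = d * (r * z * r⁻¹) * d⁻¹ := by rw [← hdr]; group
        rw [h3]
        exact D.mul_mem (D.mul_mem hd' hz) (D.inv_mem hd')
    have hrD : r ∈ D := hinf ⟨hr', hrN⟩
    apply hyD
    rw [Subgroup.mem_subgroupOf, ← hdr]
    exact D.mul_mem hd' hrD

end

end Cfsg.Agent.Lib.Helper47.DefChar
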