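import Mathlib
import Cfsg.Agent.Lib.Helper47.DefChar.RadicalGen

set_option autoImplicit false

/-!
# Radical `p`-subgroups of `SL_n(q)` centralised by a `p`-regular element

If `D ≠ 1` is a `p`-subgroup of `SL_n(q)` (defining characteristic) that contains every
`p`-subgroup normalised by `N(D)`, and `g` is a `p`-regular element centralising `D`, then `g`
is central.
-/

namespace Cfsg.Agent.Lib.Helper47.DefChar

open Matrix

section

variable {n : ℕ} {F : Type*} [Field F]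

/-- the fixed vectors of a subgroup -/
def fixW (D : Subgroup (Matrix.SpecialLinearGroup (Fin n) F)) : Submodule F (Fin n → F) where
  carrier := {v | ∀ d ∈ D, (d : Matrix (Fin n) (Fin n) F) *ᵥ v = v}
  add_mem' := by
    intro a b ha hb d hd
    rw [Matrix.mulVec_add, ha d hd, hb d hd]
  zero_mem' := by
    intro d _
    rw [Matrix.mulVec_zero]
  smul_mem' := by
    intro c v hv d hd
    rw [Matrix.mulVec_smul, hv d hd]

theorem mem_fixW {D : Subgroup (Matrix.SpecialLinearGroup (Fin n) F)} {v : Fin n → F} :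
    v ∈ fixW D ↔ ∀ d ∈ D, (d : Matrix (Fin n) (Fin n) F) *ᵥ v = v := Iff.rfl

theorem inv_mulVec_cancel (x : Matrix.SpecialLinearGroup (Fin n) F) (v : Fin n → F) :
    ((x⁻¹ : Matrix.SpecialLinearGroup (Fin n) F) : Matrix (Fin n) (Fin n) F) *ᵥ
      ((x : Matrix (Fin n) (Fin n) F) *ᵥ v) = v := by
  rw [Matrix.mulVec_mulVec, ← Matrix.SpecialLinearGroup.coe_mul, inv_mul_cancel,
    Matrix.SpecialLinearGroup.coe_one, Matrix.one_mulVec]

theorem mulVec_inv_cancel (x : Matrix.SpecialLinearGroup (Fin n) F) (v : Fin n → F) :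
    (x : Matrix (Fin n) (Fin n) F) *ᵥ
      (((x⁻¹ : Matrix.SpecialLinearGroup (Fin n) F) : Matrix (Fin n) (Fin n) F) *ᵥ v) = v := by
  rw [Matrix.mulVec_mulVec, ← Matrix.SpecialLinearGroup.coe_mul, mul_inv_cancel,
    Matrix.SpecialLinearGroup.coe_one, Matrix.one_mulVec]

/-- the elements acting trivially on `W` and on the quotient by `W` -/
def radR (W : Submodule F (Fin n → F)) : Subgroup (Matrix.SpecialLinearGroup (Fin n) F) where
  carrier := {x | (∀ v, (x : Matrix (Fin n) (Fin n) F) *ᵥ v - v ∈ W) ∧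
    ∀ w ∈ W, (x : Matrix (Fin n) (Fin n) F) *ᵥ w = w}
  one_mem' := by
    refine ⟨fun v => ?_, fun w _ => ?_⟩
    · rw [Matrix.SpecialLinearGroup.coe_one, Matrix.one_mulVec, sub_self]
      exact W.zero_mem
    · rw [Matrix.SpecialLinearGroup.coe_one, Matrix.one_mulVec]
  mul_mem' := by
    rintro x y ⟨hx1, hx2⟩ ⟨hy1, hy2⟩
    refine ⟨fun v => ?_, fun w hw => ?_⟩
    · rw [Matrix.SpecialLinearGroup.coe_mul, ← Matrix.mulVec_mulVec]
      have e : (x : Matrix (Fin n) (Fin n) F) *ᵥ ((y : Matrix (Fin n) (Fin n) F) *ᵥ v) - v =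
          ((x : Matrix (Fin n) (Fin n) F) *ᵥ ((y : Matrix (Fin n) (Fin n) F) *ᵥ v) -
            (y : Matrix (Fin n) (Fin n) F) *ᵥ v) + ((y : Matrix (Fin n) (Fin n) F) *ᵥ v - v) := by
        abel
      rw [e]
      exact W.add_mem (hx1 _) (hy1 _)
    · rw [Matrix.SpecialLinearGroup.coe_mul, ← Matrix.mulVec_mulVec, hy2 w hw, hx2 w hw]
  inv_mem' := by
    rintro x ⟨hx1, hx2⟩
    refine ⟨fun v => ?_, fun w hw => ?_⟩
    · have h := hx1 (((x⁻¹ : Matrix.SpecialLinearGroup (Fin n) F) :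
        Matrix (Fin n) (Fin n) F) *ᵥ v)
      rw [mulVec_inv_cancel] at h
      have e : ((x⁻¹ : Matrix.SpecialLinearGroup (Fin n) F) : Matrix (Fin n) (Fin n) F) *ᵥ v - v =
          -(v - ((x⁻¹ : Matrix.SpecialLinearGroup (Fin n) F) :
            Matrix (Fin n) (Fin n) F) *ᵥ v) := by abel
      rw [e]
      exact W.neg_mem h
    · have h := inv_mulVec_cancel x w
      rw [hx2 w hw] at h
      exact h

theorem mem_radR {W : Submodule F (Fin n → F)} {x : Matrix.SpecialLinearGroup (Fin n) F} :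
    x ∈ radR W ↔ (∀ v, (x : Matrix (Fin n) (Fin n) F) *ᵥ v - v ∈ W) ∧
      ∀ w ∈ W, (x : Matrix (Fin n) (Fin n) F) *ᵥ w = w := Iff.rfl

theorem isPGroup_radR (p : ℕ) [Fact p.Prime] [CharP F p] (W : Submodule F (Fin n → F)) :
    IsPGroup p (radR W) := by
  rintro ⟨x, hx1, hx2⟩
  refine ⟨1, ?_⟩
  rw [pow_one]
  apply Subtype.ext
  have hpow : ∀ k : ℕ, ∀ v, ((x ^ k : Matrix.SpecialLinearGroup (Fin n) F) :
      Matrix (Fin n) (Fin n) F) *ᵥ v =
      v + (k : F) • ((x : Matrix (Fin n) (Fin n) F) *ᵥ v - v) := by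
    intro k
    induction k with
    | zero =>
      intro v
      rw [pow_zero, Matrix.SpecialLinearGroup.coe_one, Matrix.one_mulVec, Nat.cast_zero, zero_smul,
        add_zero]
    | succ k ih =>
      intro v
      rw [pow_succ', Matrix.SpecialLinearGroup.coe_mul, ← Matrix.mulVec_mulVec, ih,
        Matrix.mulVec_add, Matrix.mulVec_smul, hx2 _ (hx1 v), Nat.cast_succ, add_smul, one_smul]
      abel
  change ((x ^ p : Matrix.SpecialLinearGroup (Fin n) F)) = 1
  apply Subtype.ext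
  rw [Matrix.SpecialLinearGroup.coe_one, Matrix.ext_iff_mulVec]
  intro v
  have h := hpow p v
  rw [CharP.cast_eq_zero F p, zero_smul, add_zero] at h
  rw [Matrix.one_mulVec]
  exact h

theorem normalizer_map_fixW {D : Subgroup (Matrix.SpecialLinearGroup (Fin n) F)}
    {h : Matrix.SpecialLinearGroup (Fin n) F}
    (hh : h ∈ Subgroup.normalizer (D : Set (Matrix.SpecialLinearGroup (Fin n) F)))
    {w : Fin n → F} (hw : w ∈ fixW D) :
    (h : Matrix (Fin n) (Fin n) F) *ᵥ w ∈ fixW D := by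
  intro d hd
  have h1 : h⁻¹ * d * h ∈ D := by
    rw [Subgroup.mem_normalizer_iff] at hh
    apply (hh (h⁻¹ * d * h)).mpr
    have e : h * (h⁻¹ * d * h) * h⁻¹ = d := by group
    rw [e]
    exact hd
  have h2 := hw _ h1
  have e : (d : Matrix (Fin n) (Fin n) F) *ᵥ ((h : Matrix (Fin n) (Fin n) F) *ᵥ w) =
      (h : Matrix (Fin n) (Fin n) F) *ᵥ
        (((h⁻¹ * d * h : Matrix.SpecialLinearGroup (Fin n) F) :
          Matrix (Fin n) (Fin n) F) *ᵥ w) := by
    have e0 : d * h = h * (h⁻¹ * d * h) := by group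
    rw [Matrix.mulVec_mulVec, Matrix.mulVec_mulVec, ← Matrix.SpecialLinearGroup.coe_mul,
      ← Matrix.SpecialLinearGroup.coe_mul, e0]
  rw [e, h2]

theorem radR_normalized {D : Subgroup (Matrix.SpecialLinearGroup (Fin n) F)}
    {h : Matrix.SpecialLinearGroup (Fin n) F}
    (hh : h ∈ Subgroup.normalizer (D : Set (Matrix.SpecialLinearGroup (Fin n) F)))
    {x : Matrix.SpecialLinearGroup (Fin n) F} (hx : x ∈ radR (fixW D)) :
    h * x * h⁻¹ ∈ radR (fixW D) := by
  obtain ⟨hx1, hx2⟩ := hx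
  have hh' : h⁻¹ ∈ Subgroup.normalizer (D : Set (Matrix.SpecialLinearGroup (Fin n) F)) :=
    Subgroup.inv_mem _ hh
  refine ⟨fun v => ?_, fun w hw => ?_⟩
  · have e : ((h * x * h⁻¹ : Matrix.SpecialLinearGroup (Fin n) F) :
        Matrix (Fin n) (Fin n) F) *ᵥ v - v =
        (h : Matrix (Fin n) (Fin n) F) *ᵥ ((x : Matrix (Fin n) (Fin n) F) *ᵥ
          (((h⁻¹ : Matrix.SpecialLinearGroup (Fin n) F) : Matrix (Fin n) (Fin n) F) *ᵥ v) -
          ((h⁻¹ : Matrix.SpecialLinearGroup (Fin n) F) : Matrix (Fin n) (Fin n) F) *ᵥ v) := by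
      rw [Matrix.mulVec_sub, mulVec_inv_cancel, Matrix.SpecialLinearGroup.coe_mul,
        Matrix.SpecialLinearGroup.coe_mul, ← Matrix.mulVec_mulVec, ← Matrix.mulVec_mulVec]
    rw [e]
    exact normalizer_map_fixW hh (hx1 _)
  · rw [Matrix.SpecialLinearGroup.coe_mul, Matrix.SpecialLinearGroup.coe_mul,
      ← Matrix.mulVec_mulVec, ← Matrix.mulVec_mulVec, hx2 _ (normalizer_map_fixW hh' hw),
      mulVec_inv_cancel]

/-- the action of a subgroup on column vectors -/
@[instance_reducible]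
def dAct (D : Subgroup (Matrix.SpecialLinearGroup (Fin n) F)) : MulAction D (Fin n → F) where
  smul d v := ((d : Matrix.SpecialLinearGroup (Fin n) F) : Matrix (Fin n) (Fin n) F) *ᵥ v
  one_smul v := by
    change (((1 : D) : Matrix.SpecialLinearGroup (Fin n) F) : Matrix (Fin n) (Fin n) F) *ᵥ v = v
    rw [Subgroup.coe_one, Matrix.SpecialLinearGroup.coe_one, Matrix.one_mulVec]
  mul_smul a b v := by
    change (((a * b : D) : Matrix.SpecialLinearGroup (Fin n) F) : Matrix (Fin n) (Fin n) F) *ᵥ v =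
      ((a : Matrix.SpecialLinearGroup (Fin n) F) : Matrix (Fin n) (Fin n) F) *ᵥ
        (((b : Matrix.SpecialLinearGroup (Fin n) F) : Matrix (Fin n) (Fin n) F) *ᵥ v)
    rw [Subgroup.coe_mul, Matrix.SpecialLinearGroup.coe_mul, Matrix.mulVec_mulVec]

theorem exists_ne_zero_mem_fixW [Fintype F] (p : ℕ) [Fact p.Prime] [CharP F p] (hn : 0 < n)
    (D : Subgroup (Matrix.SpecialLinearGroup (Fin n) F)) (hD : IsPGroup p D) :
    ∃ w ∈ fixW D, w ≠ 0 := by
  let _ := dAct D
  have hcard : p ∣ Nat.card (Fin n → F) := by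
    rw [Nat.card_eq_fintype_card, Fintype.card_fun, Fintype.card_fin]
    obtain ⟨f, _, hq⟩ := FiniteField.card F p
    rw [hq, ← pow_mul]
    exact dvd_pow_self p (Nat.mul_ne_zero f.pos.ne' hn.ne')
  have h0 : (0 : Fin n → F) ∈ MulAction.fixedPoints D (Fin n → F) := by
    intro d
    change ((d : Matrix.SpecialLinearGroup (Fin n) F) : Matrix (Fin n) (Fin n) F) *ᵥ 0 = 0
    exact Matrix.mulVec_zero _
  obtain ⟨b, hb, hne⟩ :=
    hD.exists_fixed_point_of_prime_dvd_card_of_fixed_point (Fin n → F) hcard h0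
  exact ⟨b, fun d hd => hb ⟨d, hd⟩, hne.symm⟩

theorem exists_not_mem_fixW (D : Subgroup (Matrix.SpecialLinearGroup (Fin n) F)) (hD : D ≠ ⊥) :
    ∃ v, v ∉ fixW D := by
  by_contra hcon
  push_neg at hcon
  apply hD
  rw [Subgroup.eq_bot_iff_forall]
  intro d hd
  apply Subtype.ext
  rw [Matrix.SpecialLinearGroup.coe_one, Matrix.ext_iff_mulVec]
  intro v
  rw [Matrix.one_mulVec]
  exact hcon v d hd

/-- the transvection `1 + w cᵀ` -/
def trv (w c : Fin n → F) (h : c ⬝ᵥ w = 0) : Matrix.SpecialLinearGroup (Fin n) F :=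
  ⟨1 + Matrix.vecMulVec w c, by
    rw [Matrix.vecMulVec_eq Unit, Matrix.det_one_add_replicateCol_mul_replicateRow, h, add_zero]⟩

theorem trv_coe (w c : Fin n → F) (h : c ⬝ᵥ w = 0) :
    (trv w c h : Matrix (Fin n) (Fin n) F) = 1 + Matrix.vecMulVec w c := rfl

theorem trv_mulVec (w c : Fin n → F) (h : c ⬝ᵥ w = 0) (v : Fin n → F) :
    (trv w c h : Matrix (Fin n) (Fin n) F) *ᵥ v = v + (c ⬝ᵥ v) • w := by
  rw [trv_coe, Matrix.add_mulVec, Matrix.one_mulVec, Matrix.vecMulVec_mulVec, op_smul_eq_smul]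

theorem trv_mem_radR {W : Submodule F (Fin n → F)} {w c : Fin n → F} (hw : w ∈ W)
    (hc : ∀ w' ∈ W, c ⬝ᵥ w' = 0) :
    trv w c (hc w hw) ∈ radR W := by
  refine ⟨fun v => ?_, fun w' hw' => ?_⟩
  · rw [trv_mulVec, add_sub_cancel_left]
    exact W.smul_mem _ hw
  · rw [trv_mulVec, hc w' hw', zero_smul, add_zero]

theorem rank_one_eq {ι : Type*} (u w c e : ι → F) (h : ∀ i j, u i * c j = w i * e j)
    (hw : w ≠ 0) (hc : c ≠ 0) : ∃ l : F, u = l • w ∧ e = l • c := by
  obtain ⟨i₀, hi₀⟩ : ∃ i, w i ≠ 0 := by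
    by_contra hcon
    push_neg at hcon
    exact hw (funext hcon)
  obtain ⟨j₀, hj₀⟩ : ∃ j, c j ≠ 0 := by
    by_contra hcon
    push_neg at hcon
    exact hc (funext hcon)
  have hu : ∀ i, u i = e j₀ / c j₀ * w i := by
    intro i
    have := h i j₀
    field_simp
    linear_combination this
  refine ⟨e j₀ / c j₀, funext fun i => ?_, funext fun j => ?_⟩
  · rw [Pi.smul_apply, smul_eq_mul]
    exact hu i
  · rw [Pi.smul_apply, smul_eq_mul]
    have h1 := h i₀ j
    rw [hu i₀] at h1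
    have h2 : w i₀ * (e j₀ / c j₀ * c j) = w i₀ * e j := by linear_combination h1
    exact (mul_left_cancel₀ hi₀ h2).symm

/-- the row vector of a functional -/
def rowOf (f : (Fin n → F) →ₗ[F] F) : Fin n → F := fun i => f fun j => if i = j then 1 else 0

theorem rowOf_dot (f : (Fin n → F) →ₗ[F] F) (v : Fin n → F) : rowOf f ⬝ᵥ v = f v := by
  rw [LinearMap.pi_apply_eq_sum_univ f v, dotProduct]
  apply Finset.sum_congr rfl
  intro i _
  rw [smul_eq_mul, mul_comm]
  rfl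

theorem commute_trv {g : Matrix.SpecialLinearGroup (Fin n) F} {w c : Fin n → F}
    (h : c ⬝ᵥ w = 0) (hcomm : g * trv w c h = trv w c h * g) (hw : w ≠ 0) (hc : c ≠ 0) :
    ∃ l : F, (g : Matrix (Fin n) (Fin n) F) *ᵥ w = l • w ∧
      c ᵥ* (g : Matrix (Fin n) (Fin n) F) = l • c := by
  have h1 := congrArg (fun x : Matrix.SpecialLinearGroup (Fin n) F =>
    (x : Matrix (Fin n) (Fin n) F)) hcomm
  simp only [Matrix.SpecialLinearGroup.coe_mul, trv_coe] at h1
  rw [mul_add, add_mul, mul_one, one_mul, Matrix.mul_vecMulVec, Matrix.vecMulVec_mul] at h1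
  have h2 := add_left_cancel h1
  apply rank_one_eq _ w c _ _ hw hc
  intro i j
  have := congrFun (congrFun h2 i) j
  rw [Matrix.vecMulVec_apply, Matrix.vecMulVec_apply] at this
  exact this

/-- an element commuting with `radR W` acts as one scalar on `W` and on the quotient -/
theorem scalar_of_commute_radR (W : Submodule F (Fin n → F)) {w₀ v₁ : Fin n → F} (hw₀ : w₀ ∈ W)
    (hw₀0 : w₀ ≠ 0) (hv₁ : v₁ ∉ W) (g : Matrix.SpecialLinearGroup (Fin n) F)
    (hcomm : ∀ x ∈ radR W, g * x = x * g) :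
    ∃ l : F, (∀ v, (g : Matrix (Fin n) (Fin n) F) *ᵥ v - l • v ∈ W) ∧
      ∀ w ∈ W, (g : Matrix (Fin n) (Fin n) F) *ᵥ w = l • w := by
  obtain ⟨f₀, hf₀, hWf₀⟩ := Submodule.exists_le_ker_of_notMem hv₁
  have hc₀ : ∀ w' ∈ W, rowOf f₀ ⬝ᵥ w' = 0 := by
    intro w' hw'
    rw [rowOf_dot]
    exact hWf₀ hw'
  have hc₀0 : rowOf f₀ ≠ 0 := by
    intro h0
    apply hf₀
    rw [← rowOf_dot, h0, zero_dotProduct]
  have key : ∀ w ∈ W, w ≠ 0 → ∀ c : Fin n → F, (∀ w' ∈ W, c ⬝ᵥ w' = 0) → c ≠ 0 →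
      ∃ l : F, (g : Matrix (Fin n) (Fin n) F) *ᵥ w = l • w ∧
        c ᵥ* (g : Matrix (Fin n) (Fin n) F) = l • c := by
    intro w hw hw0 c hc hc0
    exact commute_trv (hc w hw) (hcomm _ (trv_mem_radR hw hc)) hw0 hc0
  obtain ⟨l, hl1, hl2⟩ := key w₀ hw₀ hw₀0 (rowOf f₀) hc₀ hc₀0
  have hW : ∀ w ∈ W, (g : Matrix (Fin n) (Fin n) F) *ᵥ w = l • w := by
    intro w hw
    by_cases hw0 : w = 0
    · rw [hw0, Matrix.mulVec_zero, smul_zero]
    · obtain ⟨l', hl1', hl2'⟩ := key w hw hw0 (rowOf f₀) hc₀ hc₀0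
      have : l' = l := by
        obtain ⟨j, hj⟩ : ∃ j, rowOf f₀ j ≠ 0 := by
          by_contra hcon
          push_neg at hcon
          exact hc₀0 (funext hcon)
        have h3 := congrFun (hl2'.symm.trans hl2) j
        rw [Pi.smul_apply, Pi.smul_apply, smul_eq_mul, smul_eq_mul] at h3
        exact mul_right_cancel₀ hj h3
      rw [hl1', this]
  have hA : ∀ c : Fin n → F, (∀ w' ∈ W, c ⬝ᵥ w' = 0) →
      c ᵥ* (g : Matrix (Fin n) (Fin n) F) = l • c := by
    intro c hc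
    by_cases hc0 : c = 0
    · rw [hc0, Matrix.zero_vecMul, smul_zero]
    · obtain ⟨l', hl1', hl2'⟩ := key w₀ hw₀ hw₀0 c hc hc0
      have : l' = l := by
        obtain ⟨i, hi⟩ : ∃ i, w₀ i ≠ 0 := by
          by_contra hcon
          push_neg at hcon
          exact hw₀0 (funext hcon)
        have h3 := congrFun (hl1'.symm.trans hl1) i
        rw [Pi.smul_apply, Pi.smul_apply, smul_eq_mul, smul_eq_mul] at h3
        exact mul_right_cancel₀ hi h3
      rw [hl2', this]
  refine ⟨l, fun v => ?_, hW⟩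
  by_contra hu
  obtain ⟨f, hf, hWf⟩ := Submodule.exists_le_ker_of_notMem hu
  apply hf
  have hc : ∀ w' ∈ W, rowOf f ⬝ᵥ w' = 0 := by
    intro w' hw'
    rw [rowOf_dot]
    exact hWf hw'
  rw [← rowOf_dot, dotProduct_sub, Matrix.dotProduct_mulVec, hA _ hc, smul_dotProduct,
    dotProduct_smul, sub_self]

/-- an element of order prime to `p` that is a scalar up to a square-zero matrix is central -/
theorem mem_center_of_scalar (p : ℕ) [Fact p.Prime] [CharP F p] (hn : 0 < n)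
    (g : Matrix.SpecialLinearGroup (Fin n) F) (hg : ¬ p ∣ orderOf g)
    (W : Submodule F (Fin n → F)) (l : F)
    (h1 : ∀ v, (g : Matrix (Fin n) (Fin n) F) *ᵥ v - l • v ∈ W)
    (h2 : ∀ w ∈ W, (g : Matrix (Fin n) (Fin n) F) *ᵥ w = l • w) :
    g ∈ Subgroup.center (Matrix.SpecialLinearGroup (Fin n) F) := by
  have hp := (Fact.out : p.Prime)
  have : NeZero n := ⟨hn.ne'⟩
  set N : Matrix (Fin n) (Fin n) F := (g : Matrix (Fin n) (Fin n) F) - l • 1 with hN
  have hNv : ∀ v, N *ᵥ v = (g : Matrix (Fin n) (Fin n) F) *ᵥ v - l • v := by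
    intro v
    rw [hN, Matrix.sub_mulVec, Matrix.smul_mulVec, Matrix.one_mulVec]
  have hNN : N * N = 0 := by
    rw [Matrix.ext_iff_mulVec]
    intro v
    rw [← Matrix.mulVec_mulVec, hNv (N *ᵥ v), hNv v, h2 _ (h1 v), sub_self, Matrix.zero_mulVec]
  have hg1 : (g : Matrix (Fin n) (Fin n) F) = l • 1 + N := by
    rw [hN]
    abel
  have hcommute : Commute (l • (1 : Matrix (Fin n) (Fin n) F)) N :=
    (Commute.one_left N).smul_left l
  have hNp : N ^ p = 0 := pow_eq_zero_of_le hp.two_le (by rw [pow_two]; exact hNN)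
  have hgp : (g : Matrix (Fin n) (Fin n) F) ^ p = l ^ p • 1 := by
    rw [hg1, add_pow_char_of_commute p hcommute, hNp, add_zero, smul_pow, one_pow]
  obtain ⟨m, hm⟩ := exists_pow_eq_self_of_coprime ((Nat.Prime.coprime_iff_not_dvd hp).mpr hg)
  have hgm : (g : Matrix (Fin n) (Fin n) F) = (l ^ p) ^ m • 1 := by
    have h3 := congrArg (fun x : Matrix.SpecialLinearGroup (Fin n) F =>
      (x : Matrix (Fin n) (Fin n) F)) hm
    simp only [Matrix.SpecialLinearGroup.coe_pow] at h3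
    rw [← h3, hgp, smul_pow, one_pow]
  rw [Subgroup.mem_center_iff]
  intro h
  apply Subtype.ext
  rw [Matrix.SpecialLinearGroup.coe_mul, Matrix.SpecialLinearGroup.coe_mul, hgm, Matrix.mul_smul,
    Matrix.smul_mul, mul_one, one_mul]

/-- **radical `p`-subgroups centralised by a `p`-regular non-central element are trivial** -/
theorem radical_dichotomy [Fintype F] (p : ℕ) [Fact p.Prime] [CharP F p] (hn : 0 < n)
    (D : Subgroup (Matrix.SpecialLinearGroup (Fin n) F)) (hD : IsPGroup p D)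
    (hrad : ∀ Q : Subgroup (Matrix.SpecialLinearGroup (Fin n) F), IsPGroup p Q →
      Q ≤ Subgroup.normalizer (D : Set (Matrix.SpecialLinearGroup (Fin n) F)) →
      (∀ h ∈ Subgroup.normalizer (D : Set (Matrix.SpecialLinearGroup (Fin n) F)),
        ∀ x ∈ Q, h * x * h⁻¹ ∈ Q) → Q ≤ D)
    (g : Matrix.SpecialLinearGroup (Fin n) F) (hg : ¬ p ∣ orderOf g)
    (hcomm : ∀ d ∈ D, g * d = d * g) :
    D = ⊥ ∨ g ∈ Subgroup.center (Matrix.SpecialLinearGroup (Fin n) F) := by
  by_cases hbot : D = ⊥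
  · exact Or.inl hbot
  right
  obtain ⟨w₀, hw₀, hw₀0⟩ := exists_ne_zero_mem_fixW p hn D hD
  obtain ⟨v₁, hv₁⟩ := exists_not_mem_fixW D hbot
  have hRp : IsPGroup p (radR (fixW D)) := isPGroup_radR p _
  have hDN : D ≤ Subgroup.normalizer (D : Set (Matrix.SpecialLinearGroup (Fin n) F)) :=
    Subgroup.le_normalizer
  have hDR : D ≤ Subgroup.normalizer
      ((radR (fixW D) : Subgroup _) : Set (Matrix.SpecialLinearGroup (Fin n) F)) := by
    intro d hd
    rw [Subgroup.mem_normalizer_iff]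
    intro x
    constructor
    · intro hx
      exact radR_normalized (hDN hd) hx
    · intro hx
      have h1 := radR_normalized (Subgroup.inv_mem _ (hDN hd)) hx
      have e : d⁻¹ * (d * x * d⁻¹) * d⁻¹⁻¹ = x := by group
      rw [e] at h1
      exact h1
  have hinf : radR (fixW D) ⊓
      Subgroup.normalizer (D : Set (Matrix.SpecialLinearGroup (Fin n) F)) ≤ D := by
    apply hrad
    · exact hRp.to_le inf_le_left
    · exact inf_le_right
    · rintro h hh x ⟨hx1, hx2⟩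
      exact ⟨radR_normalized hh hx1,
        Subgroup.mul_mem _ (Subgroup.mul_mem _ hh hx2) (Subgroup.inv_mem _ hh)⟩
  have : Finite (Matrix.SpecialLinearGroup (Fin n) F) := inferInstance
  have hRD : radR (fixW D) ≤ D := le_of_inf_normalizer_le hD hRp hDR hinf
  obtain ⟨l, hl1, hl2⟩ := scalar_of_commute_radR (fixW D) hw₀ hw₀0 hv₁ g
    (fun x hx => hcomm x (hRD hx))
  exact mem_center_of_scalar p hn g hg (fixW D) l hl1 hl2

end

end Cfsg.Agent.Lib.Helper47.DefChar
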