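import Mathlib
import Cfsg.Agent.Lib.Helper07.PSLnC
import Cfsg.Agent.Lib.Helper47.BruhatGL

set_option autoImplicit false

/-!
# Monomial matrices, root elements and the Bruhat decomposition `SL_n = U N U`
-/

namespace Cfsg.Agent.Lib.Helper47.DefChar

open Finset
open Cfsg.Agent.Lib.Helper07 (UT mem_UT)

variable {n : ℕ} {F : Type*} [Field F]

/-- monomial matrices: column `c` has the single entry `d c` in row `π c` -/
def mono (π : Equiv.Perm (Fin n)) (d : Fin n → F) : Matrix (Fin n) (Fin n) F :=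
  fun r c => if r = π c then d c else 0

theorem mono_apply (π : Equiv.Perm (Fin n)) (d : Fin n → F) (r c : Fin n) :
    mono π d r c = if r = π c then d c else 0 := rfl

theorem mono_mul (π π' : Equiv.Perm (Fin n)) (d d' : Fin n → F) :
    mono π d * mono π' d' = mono (π * π') (fun c => d (π' c) * d' c) := by
  ext r c
  rw [Matrix.mul_apply, Finset.sum_eq_single (π' c)]
  · have e : (π * π') c = π (π' c) := rfl
    rw [mono_apply, mono_apply, mono_apply, if_pos rfl, e]
    by_cases h : r = π (π' c)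
    · rw [if_pos h, if_pos h]
    · rw [if_neg h, if_neg h, zero_mul]
  · intro k _ hk
    simp only [mono_apply]
    rw [if_neg hk, mul_zero]
  · intro h
    exact absurd (mem_univ _) h

theorem mono_one : mono (1 : Equiv.Perm (Fin n)) (fun _ => (1 : F)) = 1 := by
  ext r c
  rw [mono_apply, Matrix.one_apply]
  rfl

theorem diagonal_eq_mono (e : Fin n → F) : Matrix.diagonal e = mono 1 e := by
  ext r c
  simp only [mono_apply, Equiv.Perm.coe_one, id_eq, Matrix.diagonal_apply]
  by_cases h : r = c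
  · subst h; simp
  · simp [h]

theorem det_mono (π : Equiv.Perm (Fin n)) (d : Fin n → F) :
    (mono π d).det = (Equiv.Perm.sign π : ℤ) * ∏ c, d c := by
  have h : mono π d = (Equiv.toPEquiv π).toMatrix.transpose * Matrix.diagonal d := by
    ext r c
    rw [Matrix.mul_diagonal, Matrix.transpose_apply, PEquiv.toMatrix_apply]
    simp only [mono_apply, Equiv.toPEquiv_apply, Option.mem_def, Option.some.injEq]
    by_cases h : r = π c
    · simp [h]
    · have : ¬ π c = r := fun h' => h h'.symm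
      simp [h, this]
  rw [h, Matrix.det_mul, Matrix.det_transpose, Matrix.det_permutation, Matrix.det_diagonal]

theorem mono_ne_zero_of_det (π : Equiv.Perm (Fin n)) (d : Fin n → F)
    (h : (mono π d).det ≠ 0) (c : Fin n) : d c ≠ 0 := by
  rw [det_mono] at h
  intro hc
  apply h
  rw [Finset.prod_eq_zero (mem_univ c) hc, mul_zero]

/-- decomposition of an invertible upper triangular matrix -/
theorem upper_decomp_left (c : Matrix (Fin n) (Fin n) F) (hc : c.BlockTriangular id)
    (hd : c.det ≠ 0) :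
    ∃ (u : Matrix (Fin n) (Fin n) F) (e : Fin n → F), u.BlockTriangular id ∧ (∀ i, u i i = 1) ∧
      c = u * Matrix.diagonal e := by
  have hdiag : ∀ i, c i i ≠ 0 := by
    intro i hi
    apply hd
    rw [Matrix.det_of_isUpperTriangular hc]
    exact Finset.prod_eq_zero (mem_univ i) hi
  refine ⟨Matrix.of fun i j => c i j / c j j, fun i => c i i, ?_, ?_, ?_⟩
  · intro i j hij
    rw [Matrix.of_apply, hc hij, zero_div]
  · intro i
    rw [Matrix.of_apply]
    exact div_self (hdiag i)
  · ext i j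
    rw [Matrix.mul_diagonal, Matrix.of_apply]
    exact (div_mul_cancel₀ _ (hdiag j)).symm

theorem upper_decomp_right (c : Matrix (Fin n) (Fin n) F) (hc : c.BlockTriangular id)
    (hd : c.det ≠ 0) :
    ∃ (u : Matrix (Fin n) (Fin n) F) (e : Fin n → F), u.BlockTriangular id ∧ (∀ i, u i i = 1) ∧
      c = Matrix.diagonal e * u := by
  have hdiag : ∀ i, c i i ≠ 0 := by
    intro i hi
    apply hd
    rw [Matrix.det_of_isUpperTriangular hc]
    exact Finset.prod_eq_zero (mem_univ i) hi
  refine ⟨Matrix.of fun i j => c i j / c i i, fun i => c i i, ?_, ?_, ?_⟩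
  · intro i j hij
    rw [Matrix.of_apply, hc hij, zero_div]
  · intro i
    rw [Matrix.of_apply]
    exact div_self (hdiag i)
  · ext i j
    rw [Matrix.diagonal_mul, Matrix.of_apply]
    exact (mul_div_cancel₀ _ (hdiag i)).symm

theorem det_unitriangular (u : Matrix (Fin n) (Fin n) F) (hu : u.BlockTriangular id)
    (h1 : ∀ i, u i i = 1) : u.det = 1 := by
  rw [Matrix.det_of_isUpperTriangular hu]
  exact Finset.prod_eq_one fun i _ => h1 i

/-- the Bruhat decomposition of `SL_n` relative to the unitriangular group -/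
theorem bruhat_SL (g : Matrix.SpecialLinearGroup (Fin n) F) :
    ∃ (u u' m : Matrix.SpecialLinearGroup (Fin n) F) (π : Equiv.Perm (Fin n)) (d : Fin n → F),
      u ∈ UT n F ∧ u' ∈ UT n F ∧ (m : Matrix (Fin n) (Fin n) F) = mono π d ∧ g = u * m * u' := by
  have hg : (g : Matrix (Fin n) (Fin n) F).det ≠ 0 := by rw [g.2]; exact one_ne_zero
  obtain ⟨M', hrel, hred⟩ := exists_red (g : Matrix (Fin n) (Fin n) F) hg n le_rfl
  obtain ⟨σ, d, hd, hM'⟩ := exists_perm_of_red M' hred
  obtain ⟨b, b', hb, hb', hbd, hbd', hM⟩ := hrel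
  have hbu : IsUnit b.det := isUnit_iff_ne_zero.mpr hbd
  have hbu' : IsUnit b'.det := isUnit_iff_ne_zero.mpr hbd'
  let _ : Invertible b := Matrix.invertibleOfIsUnitDet _ hbu
  let _ : Invertible b' := Matrix.invertibleOfIsUnitDet _ hbu'
  have hbi : (b⁻¹).BlockTriangular id := Matrix.blockTriangular_inv_of_blockTriangular hb
  have hbi' : (b'⁻¹).BlockTriangular id := Matrix.blockTriangular_inv_of_blockTriangular hb'
  have hbid : (b⁻¹).det ≠ 0 := by
    have h1 := congrArg Matrix.det (Matrix.nonsing_inv_mul b hbu)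
    rw [Matrix.det_mul, Matrix.det_one] at h1
    intro h
    rw [h, zero_mul] at h1
    exact zero_ne_one h1
  have hbid' : (b'⁻¹).det ≠ 0 := by
    have h1 := congrArg Matrix.det (Matrix.nonsing_inv_mul b' hbu')
    rw [Matrix.det_mul, Matrix.det_one] at h1
    intro h
    rw [h, zero_mul] at h1
    exact zero_ne_one h1
  have hg2 : (g : Matrix (Fin n) (Fin n) F) = b⁻¹ * M' * b'⁻¹ := by
    rw [hM]
    simp only [Matrix.mul_assoc]
    rw [Matrix.mul_nonsing_inv b' hbu', Matrix.mul_one, ← Matrix.mul_assoc,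
      Matrix.nonsing_inv_mul b hbu, Matrix.one_mul]
  obtain ⟨u₁, e₁, hu₁, hu₁1, hdec₁⟩ := upper_decomp_left _ hbi hbid
  obtain ⟨u₂, e₂, hu₂, hu₂1, hdec₂⟩ := upper_decomp_right _ hbi' hbid'
  have hMm : M' = mono σ d := by
    ext r c
    rw [hM' r c, mono_apply]
  have hmid : Matrix.diagonal e₁ * M' * Matrix.diagonal e₂ =
      mono σ (fun c => e₁ (σ c) * d c * e₂ c) := by
    rw [hMm, diagonal_eq_mono, diagonal_eq_mono, mono_mul, mono_mul]
    congr 1
  have hg3 : (g : Matrix (Fin n) (Fin n) F) =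
      u₁ * mono σ (fun c => e₁ (σ c) * d c * e₂ c) * u₂ := by
    rw [hg2, hdec₁, hdec₂, ← hmid]
    simp only [Matrix.mul_assoc]
  have hdu₁ : u₁.det = 1 := det_unitriangular u₁ hu₁ hu₁1
  have hdu₂ : u₂.det = 1 := det_unitriangular u₂ hu₂ hu₂1
  have hdm : (mono σ (fun c => e₁ (σ c) * d c * e₂ c)).det = 1 := by
    have := g.2
    rw [hg3, Matrix.det_mul, Matrix.det_mul, hdu₁, hdu₂, one_mul, mul_one] at this
    exact this
  refine ⟨⟨u₁, hdu₁⟩, ⟨u₂, hdu₂⟩, ⟨_, hdm⟩, σ, _, ?_, ?_, rfl, ?_⟩
  · exact mem_UT.mpr ⟨fun i j hij => hu₁ (show id j < id i from hij), hu₁1⟩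
  · exact mem_UT.mpr ⟨fun i j hij => hu₂ (show id j < id i from hij), hu₂1⟩
  · apply Subtype.ext
    exact hg3

end Cfsg.Agent.Lib.Helper47.DefChar
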