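import Mathlib
import Cfsg.Agent.Lib.Helper47.DefChar.Mono

set_option autoImplicit false

/-!
# Uniqueness of Whittaker functionals on the principal series of `SL_n(q)`

A function on `SL_n` that transforms on the left under the unitriangular group `U` by a
nondegenerate character and is right `U`-invariant is supported on the big cell `U w₀ T U`.
-/

namespace Cfsg.Agent.Lib.Helper47.DefChar

open Finset
open Cfsg.Agent.Lib.Helper07 (UT mem_UT)

variable {n : ℕ} {F : Type*} [Field F]

/-- the sum of the superdiagonal entries -/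
def supSum (M : Matrix (Fin n) (Fin n) F) : F :=
  ∑ k : Fin n, if h : k.val + 1 < n then M k ⟨k.val + 1, h⟩ else 0

theorem supSum_mul {u u' : Matrix.SpecialLinearGroup (Fin n) F} (hu : u ∈ UT n F)
    (hu' : u' ∈ UT n F) :
    supSum ((u * u' : Matrix.SpecialLinearGroup (Fin n) F) : Matrix (Fin n) (Fin n) F) =
      supSum (u : Matrix (Fin n) (Fin n) F) + supSum (u' : Matrix (Fin n) (Fin n) F) := by
  obtain ⟨hu0, hu1⟩ := mem_UT.mp hu
  obtain ⟨hu0', hu1'⟩ := mem_UT.mp hu'
  unfold supSum
  rw [← Finset.sum_add_distrib]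
  apply Finset.sum_congr rfl
  intro k _
  by_cases h : k.val + 1 < n
  · rw [dif_pos h, dif_pos h, dif_pos h, Matrix.SpecialLinearGroup.coe_mul, Matrix.mul_apply]
    set k' : Fin n := ⟨k.val + 1, h⟩ with hk'
    have hkk' : k ≠ k' := by
      intro e
      have := congrArg Fin.val e
      simp only [hk'] at this
      omega
    rw [Finset.sum_eq_add_of_mem k k' (mem_univ _) (mem_univ _) hkk']
    · rw [hu1 k, hu1' k', one_mul, mul_one, add_comm]
    · intro j _ hj
      rcases lt_trichotomy j k with hlt | heq | hgt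
      · rw [hu0 k j hlt, zero_mul]
      · exact absurd heq hj.1
      · have hj' : k' < j := by
          rw [Fin.lt_def] at hgt ⊢
          have : j.val ≠ k'.val := fun e => hj.2 (Fin.ext e)
          simp only [hk'] at this ⊢
          omega
        rw [hu0' j k' hj', mul_zero]
  · rw [dif_neg h, dif_neg h, dif_neg h, add_zero]

theorem supSum_one : supSum (1 : Matrix (Fin n) (Fin n) F) = 0 := by
  unfold supSum
  apply Finset.sum_eq_zero
  intro k _
  by_cases h : k.val + 1 < n
  · rw [dif_pos h, Matrix.one_apply_ne]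
    intro e
    have := congrArg Fin.val e
    simp only at this
    omega
  · rw [dif_neg h]

/-- root elements of `SL_n` -/
def xr (i j : Fin n) (h : i ≠ j) (c : F) : Matrix.SpecialLinearGroup (Fin n) F :=
  ⟨Matrix.transvection i j c, Matrix.det_transvection_of_ne i j h c⟩

theorem xr_coe (i j : Fin n) (h : i ≠ j) (c : F) :
    ((xr i j h c : Matrix.SpecialLinearGroup (Fin n) F) : Matrix (Fin n) (Fin n) F) =
      Matrix.transvection i j c := rfl

theorem transvection_apply (i j : Fin n) (c : F) (r s : Fin n) :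
    Matrix.transvection i j c r s =
      (if r = s then 1 else 0) + (if i = r ∧ j = s then c else 0) := by
  unfold Matrix.transvection
  rw [Matrix.add_apply, Matrix.one_apply, Matrix.single_apply]

theorem xr_mem_UT (i j : Fin n) (h : i < j) (c : F) : xr i j (ne_of_lt h) c ∈ UT n F := by
  rw [mem_UT]
  constructor
  · intro r s hsr
    rw [xr_coe, transvection_apply, if_neg (ne_of_gt hsr), if_neg, add_zero]
    rintro ⟨rfl, rfl⟩
    exact absurd h (not_lt.mpr hsr.le)
  · intro r
    rw [xr_coe, transvection_apply, if_pos rfl, if_neg, add_zero]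
    rintro ⟨rfl, h2⟩
    exact (ne_of_lt h) h2.symm

theorem supSum_transvection (a a' : Fin n) (h : a'.val = a.val + 1) (c : F) :
    supSum (Matrix.transvection a a' c) = c := by
  unfold supSum
  have ha : a.val + 1 < n := by rw [← h]; exact a'.2
  rw [Finset.sum_eq_single a]
  · rw [dif_pos ha, transvection_apply, if_neg, if_pos, zero_add]
    · exact ⟨rfl, Fin.ext h⟩
    · intro e
      have := congrArg Fin.val e
      simp only at this
      omega
  · intro k _ hk
    by_cases hk1 : k.val + 1 < n
    · rw [dif_pos hk1, transvection_apply, if_neg, if_neg, add_zero]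
      · rintro ⟨e, -⟩
        exact hk e.symm
      · intro e
        have := congrArg Fin.val e
        simp only at this
        omega
    · rw [dif_neg hk1]
  · intro h'
    exact absurd (mem_univ _) h'

/-- moving a root element across a monomial matrix -/
theorem transvection_mul_mono (π : Equiv.Perm (Fin n)) (d : Fin n → F) (hd : ∀ c, d c ≠ 0)
    (a a' : Fin n) (c : F) :
    Matrix.transvection a a' c * mono π d =
      mono π d * Matrix.transvection (π⁻¹ a) (π⁻¹ a') (c * d (π⁻¹ a') / d (π⁻¹ a)) := by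
  ext r s
  have hπi : π (π⁻¹ a) = a := by simp
  have hπj : π (π⁻¹ a') = a' := by simp
  by_cases hr : r = a
  · subst hr
    rw [Matrix.transvection_mul_apply_same]
    by_cases hs : s = π⁻¹ a'
    · subst hs
      rw [Matrix.mul_transvection_apply_same]
      congr 1
      rw [mono_apply, mono_apply, if_pos hπj.symm, if_pos hπi.symm]
      have := hd (π⁻¹ r)
      field_simp
    · rw [Matrix.mul_transvection_apply_of_ne _ _ _ _ hs]
      have : mono π d a' s = 0 := by
        rw [mono_apply, if_neg]
        intro e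
        apply hs
        rw [e]; simp
      rw [this, mul_zero, add_zero]
  · rw [Matrix.transvection_mul_apply_of_ne _ _ _ _ hr]
    by_cases hs : s = π⁻¹ a'
    · subst hs
      rw [Matrix.mul_transvection_apply_same]
      have : mono π d r (π⁻¹ a) = 0 := by
        rw [mono_apply, if_neg]
        rw [hπi]; exact hr
      rw [this, mul_zero, add_zero]
    · rw [Matrix.mul_transvection_apply_of_ne _ _ _ _ hs]

/-- a permutation of `Fin n` that decreases at every step is the reversal -/
theorem eq_revPerm_of_desc (σ : Equiv.Perm (Fin n))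
    (h : ∀ (a : Fin n) (ha : a.val + 1 < n), σ ⟨a.val + 1, ha⟩ < σ a) : σ = Fin.revPerm := by
  have hup : ∀ k : ℕ, ∀ hk : k < n, (σ ⟨k, hk⟩).val + k + 1 ≤ n := by
    intro k
    induction k with
    | zero => intro hk; have := (σ ⟨0, hk⟩).2; omega
    | succ k ih =>
      intro hk
      have hk' : k < n := by omega
      have h1 := ih hk'
      have h2 := h ⟨k, hk'⟩ hk
      rw [Fin.lt_def] at h2
      simp only at h2
      omega
  have hdown : ∀ j : ℕ, ∀ k : ℕ, ∀ hk : k < n, k + j + 1 = n → n ≤ (σ ⟨k, hk⟩).val + k + 1 := by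
    intro j
    induction j with
    | zero => intro k hk hkj; omega
    | succ j ih =>
      intro k hk hkj
      have hk1 : k + 1 < n := by omega
      have h1 := ih (k + 1) hk1 (by omega)
      have h2 := h ⟨k, hk⟩ hk1
      rw [Fin.lt_def] at h2
      simp only at h2
      omega
  ext a
  rw [Fin.revPerm_apply, Fin.val_rev]
  have h1 := hup a.val a.2
  have h2 := hdown (n - 1 - a.val) a.val a.2 (by have := a.2; omega)
  have e : (⟨a.val, a.2⟩ : Fin n) = a := rfl
  rw [e] at h1 h2
  omega

theorem exists_asc_of_ne_revPerm (σ : Equiv.Perm (Fin n)) (hσ : σ ≠ Fin.revPerm) :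
    ∃ (a : Fin n) (ha : a.val + 1 < n), σ a < σ ⟨a.val + 1, ha⟩ := by
  by_contra hcon
  push_neg at hcon
  apply hσ
  apply eq_revPerm_of_desc
  intro a ha
  rcases lt_or_eq_of_le (hcon a ha) with h | h
  · exact h
  · exfalso
    have := σ.injective h
    have := congrArg Fin.val this
    simp only at this
    omega

/-- the inverse of a monomial matrix of `SL_n` is monomial -/
theorem exists_inv_mono (m : Matrix.SpecialLinearGroup (Fin n) F) (π : Equiv.Perm (Fin n))
    (d : Fin n → F) (hm : (m : Matrix (Fin n) (Fin n) F) = mono π d) :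
    ((m⁻¹ : Matrix.SpecialLinearGroup (Fin n) F) : Matrix (Fin n) (Fin n) F) =
      mono π⁻¹ (fun c => (d (π⁻¹ c))⁻¹) := by
  have hd : ∀ c, d c ≠ 0 := by
    apply mono_ne_zero_of_det π d
    rw [← hm, m.2]
    exact one_ne_zero
  have h1 : mono π d * mono π⁻¹ (fun c => (d (π⁻¹ c))⁻¹) = 1 := by
    rw [mono_mul, ← mono_one]
    congr 1
    · simp
    · funext c
      exact mul_inv_cancel₀ (hd _)
  have hdet : (mono π⁻¹ (fun c => (d (π⁻¹ c))⁻¹)).det = 1 := by
    have := congrArg Matrix.det h1
    rw [Matrix.det_mul, ← hm, m.2, one_mul, Matrix.det_one] at this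
    exact this
  have h2 : m * ⟨_, hdet⟩ = 1 := by
    apply Subtype.ext
    change (m : Matrix (Fin n) (Fin n) F) * mono π⁻¹ (fun c => (d (π⁻¹ c))⁻¹) = 1
    rw [hm]
    exact h1
  have h3 : m⁻¹ = ⟨_, hdet⟩ := inv_eq_of_mul_eq_one_right h2
  rw [h3]

/-- **uniqueness of Whittaker functions on the principal series** -/
theorem whittaker_unique (ψ₀ : F → ℂ) (hψ₀ : ∃ c, ψ₀ c ≠ 1)
    (f : Matrix.SpecialLinearGroup (Fin n) F → ℂ)
    (hL : ∀ u ∈ UT n F, ∀ g, f (u * g) = ψ₀ (supSum (u : Matrix (Fin n) (Fin n) F)) * f g)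
    (hR : ∀ u ∈ UT n F, ∀ g, f (g * u) = f g)
    (hT : ∀ t : Matrix.SpecialLinearGroup (Fin n) F,
      (∀ i j, i ≠ j → (t : Matrix (Fin n) (Fin n) F) i j = 0) → ∀ g, f g = 0 → f (g * t) = 0)
    (w₀ : Matrix.SpecialLinearGroup (Fin n) F) (d₀ : Fin n → F)
    (hw₀ : (w₀ : Matrix (Fin n) (Fin n) F) = mono Fin.revPerm d₀)
    (h0 : f w₀ = 0) : ∀ g, f g = 0 := by
  obtain ⟨c₀, hc₀⟩ := hψ₀
  -- monomial elements
  have hmono : ∀ (m : Matrix.SpecialLinearGroup (Fin n) F) (π : Equiv.Perm (Fin n))
      (d : Fin n → F), (m : Matrix (Fin n) (Fin n) F) = mono π d → f m = 0 := by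
    intro m π d hm
    have hd : ∀ c, d c ≠ 0 := by
      apply mono_ne_zero_of_det π d
      rw [← hm, m.2]
      exact one_ne_zero
    by_cases hπ : π = Fin.revPerm
    · subst hπ
      have ht : ∀ i j, i ≠ j →
          ((w₀⁻¹ * m : Matrix.SpecialLinearGroup (Fin n) F) : Matrix (Fin n) (Fin n) F) i j = 0 := by
        intro i j hij
        rw [Matrix.SpecialLinearGroup.coe_mul, exists_inv_mono w₀ _ d₀ hw₀, hm, mono_mul,
          mono_apply, if_neg]
        simpa using hij
      have := hT (w₀⁻¹ * m) ht w₀ h0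
      rwa [mul_inv_cancel_left] at this
    · have hπ' : π⁻¹ ≠ Fin.revPerm := by
        intro e
        apply hπ
        have : π = (Fin.revPerm)⁻¹ := by rw [← e, inv_inv]
        rw [this]
        ext a
        simp [Fin.revPerm]
      obtain ⟨a, ha, hlt⟩ := exists_asc_of_ne_revPerm π⁻¹ hπ'
      set a' : Fin n := ⟨a.val + 1, ha⟩ with ha'
      have haa' : a < a' := by rw [Fin.lt_def]; simp [ha']
      have hx := xr_mem_UT a a' haa' c₀
      have hy := xr_mem_UT (π⁻¹ a) (π⁻¹ a') hlt (c₀ * d (π⁻¹ a') / d (π⁻¹ a))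
      have hcomm : xr a a' (ne_of_lt haa') c₀ * m =
          m * xr (π⁻¹ a) (π⁻¹ a') (ne_of_lt hlt) (c₀ * d (π⁻¹ a') / d (π⁻¹ a)) := by
        apply Subtype.ext
        rw [Matrix.SpecialLinearGroup.coe_mul, Matrix.SpecialLinearGroup.coe_mul, xr_coe, xr_coe,
          hm]
        exact transvection_mul_mono π d hd a a' c₀
      have h1 := hL _ hx m
      rw [hcomm, hR _ hy m, xr_coe, supSum_transvection a a' rfl] at h1
      have h2 : (ψ₀ c₀ - 1) * f m = 0 := by rw [sub_mul, one_mul, ← h1, sub_self]
      rcases mul_eq_zero.mp h2 with h | h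
      · exact absurd (sub_eq_zero.mp h) hc₀
      · exact h
  intro g
  obtain ⟨u, u', m, π, d, hu, hu', hm, rfl⟩ := bruhat_SL g
  rw [mul_assoc, hL u hu, hR u' hu', hmono m π d hm, mul_zero]

end Cfsg.Agent.Lib.Helper47.DefChar
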