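import Mathlib
import Cfsg.Agent.Lib.Helper47.DefChar.Whittaker

set_option autoImplicit false
set_option linter.unusedSimpArgs false

/-!
# Conjugation by monomial matrices, the diagonal torus and simple reflections in `SL_n`
-/

namespace Cfsg.Agent.Lib.Helper47.DefChar

open Finset
open Cfsg.Agent.Lib.Helper07 (UT mem_UT)

variable {n : ℕ} {F : Type*} [Field F]

/-- conjugation by a monomial matrix, entrywise -/
theorem conj_mono_apply (m g : Matrix.SpecialLinearGroup (Fin n) F) (π : Equiv.Perm (Fin n))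
    (d : Fin n → F) (hm : (m : Matrix (Fin n) (Fin n) F) = mono π d) (i j : Fin n) :
    ((m⁻¹ * g * m : Matrix.SpecialLinearGroup (Fin n) F) : Matrix (Fin n) (Fin n) F) i j =
      (d i)⁻¹ * (g : Matrix (Fin n) (Fin n) F) (π i) (π j) * d j := by
  rw [Matrix.SpecialLinearGroup.coe_mul, Matrix.SpecialLinearGroup.coe_mul,
    exists_inv_mono m π d hm, hm, Matrix.mul_apply, Finset.sum_eq_single (π j)]
  · rw [Matrix.mul_apply, Finset.sum_eq_single (π i)]
    · rw [mono_apply, mono_apply, if_pos (by simp), if_pos rfl]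
      simp
    · intro r _ hr
      rw [mono_apply, if_neg, zero_mul]
      intro e
      apply hr
      rw [e]; simp
    · intro h; exact absurd (mem_univ _) h
  · intro s _ hs
    rw [mono_apply, if_neg hs, mul_zero]
  · intro h; exact absurd (mem_univ _) h

/-- the diagonal torus of `SL_n` -/
def TT (n : ℕ) (F : Type*) [Field F] : Subgroup (Matrix.SpecialLinearGroup (Fin n) F) where
  carrier := {t | ∀ i j, i ≠ j → (t : Matrix (Fin n) (Fin n) F) i j = 0}
  one_mem' := by
    intro i j hij
    rw [Matrix.SpecialLinearGroup.coe_one, Matrix.one_apply_ne hij]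
  mul_mem' := by
    intro a b ha hb i j hij
    rw [Matrix.SpecialLinearGroup.coe_mul, Matrix.mul_apply]
    apply Finset.sum_eq_zero
    intro r _
    by_cases h1 : i = r
    · subst h1
      rw [hb i j hij, mul_zero]
    · rw [ha i r h1, zero_mul]
  inv_mem' := by
    intro a ha i j hij
    have hm : (a : Matrix (Fin n) (Fin n) F) = mono 1 (fun c => (a : Matrix (Fin n) (Fin n) F) c c) := by
      ext r c
      rw [mono_apply]
      by_cases h : r = c
      · subst h; simp
      · rw [if_neg (by simpa using h), ha r c h]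
    rw [exists_inv_mono a 1 _ hm, mono_apply, if_neg]
    simpa using hij

theorem mem_TT {t : Matrix.SpecialLinearGroup (Fin n) F} :
    t ∈ TT n F ↔ ∀ i j, i ≠ j → (t : Matrix (Fin n) (Fin n) F) i j = 0 := Iff.rfl

theorem TT_coe_eq_mono {t : Matrix.SpecialLinearGroup (Fin n) F} (ht : t ∈ TT n F) :
    (t : Matrix (Fin n) (Fin n) F) = mono 1 (fun c => (t : Matrix (Fin n) (Fin n) F) c c) := by
  ext r c
  rw [mono_apply]
  by_cases h : r = c
  · subst h; simp
  · rw [if_neg (by simpa using h), ht r c h]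

theorem TT_diag_ne_zero {t : Matrix.SpecialLinearGroup (Fin n) F} (ht : t ∈ TT n F) (c : Fin n) :
    (t : Matrix (Fin n) (Fin n) F) c c ≠ 0 := by
  apply mono_ne_zero_of_det 1 (fun c => (t : Matrix (Fin n) (Fin n) F) c c)
  rw [← TT_coe_eq_mono ht, t.2]
  exact one_ne_zero

theorem TT_comm {a b : Matrix.SpecialLinearGroup (Fin n) F} (ha : a ∈ TT n F) (hb : b ∈ TT n F) :
    a * b = b * a := by
  apply Subtype.ext
  rw [Matrix.SpecialLinearGroup.coe_mul, Matrix.SpecialLinearGroup.coe_mul, TT_coe_eq_mono ha,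
    TT_coe_eq_mono hb, mono_mul, mono_mul]
  congr 1
  funext c
  simp only [Equiv.Perm.coe_one, id_eq]
  exact mul_comm _ _

/-- the torus normalizes the unitriangular group -/
theorem TT_conj_UT {t u : Matrix.SpecialLinearGroup (Fin n) F} (ht : t ∈ TT n F)
    (hu : u ∈ UT n F) : t⁻¹ * u * t ∈ UT n F := by
  obtain ⟨hu0, hu1⟩ := mem_UT.mp hu
  rw [mem_UT]
  constructor
  · intro i j hij
    rw [conj_mono_apply t u 1 _ (TT_coe_eq_mono ht)]
    simp only [Equiv.Perm.coe_one, id_eq]
    rw [hu0 i j hij, mul_zero, zero_mul]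
  · intro i
    rw [conj_mono_apply t u 1 _ (TT_coe_eq_mono ht)]
    simp only [Equiv.Perm.coe_one, id_eq]
    rw [hu1 i, mul_one, inv_mul_cancel₀ (TT_diag_ne_zero ht i)]

theorem TT_conj_UT' {t u : Matrix.SpecialLinearGroup (Fin n) F} (ht : t ∈ TT n F)
    (hu : u ∈ UT n F) : t * u * t⁻¹ ∈ UT n F := by
  have := TT_conj_UT ((TT n F).inv_mem ht) hu
  rwa [inv_inv] at this

theorem UT_le_upper {u : Matrix.SpecialLinearGroup (Fin n) F} (hu : u ∈ UT n F) :
    (u : Matrix (Fin n) (Fin n) F).BlockTriangular id := by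
  intro i j hij
  exact (mem_UT.mp hu).1 i j hij

section Reflection

variable (k : Fin n) (hk : k.val + 1 < n)

/-- the successor index -/
def ksucc : Fin n := ⟨k.val + 1, hk⟩

theorem k_ne_ksucc : k ≠ ksucc k hk := by
  intro e
  have := congrArg Fin.val e
  simp only [ksucc] at this
  omega

theorem k_lt_ksucc : k < ksucc k hk := by
  rw [Fin.lt_def]; simp [ksucc]

/-- the coefficient vector of the simple reflection -/
def skd : Fin n → F := fun c => if c = k then -1 else 1

theorem prod_skd : ∏ c, skd (F := F) k c = -1 := by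
  unfold skd
  rw [Finset.prod_ite_eq' univ k (fun _ => (-1 : F))]
  simp

/-- a representative in `SL_n` of the simple reflection `(k, k+1)` -/
def sk : Matrix.SpecialLinearGroup (Fin n) F :=
  ⟨mono (Equiv.swap k (ksucc k hk)) (skd k), by
    rw [det_mono, Equiv.Perm.sign_swap (k_ne_ksucc k hk), prod_skd]
    simp⟩

theorem sk_coe : ((sk k hk : Matrix.SpecialLinearGroup (Fin n) F) : Matrix (Fin n) (Fin n) F) =
    mono (Equiv.swap k (ksucc k hk)) (skd k) := rfl

theorem skd_ne_zero (c : Fin n) : skd (F := F) k c ≠ 0 := by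
  unfold skd
  split_ifs <;> simp

/-- the order relation under an adjacent transposition -/
theorem swap_lt_of_lt {i j : Fin n} (hij : j < i) (hne : ¬ (i = ksucc k hk ∧ j = k)) :
    Equiv.swap k (ksucc k hk) j < Equiv.swap k (ksucc k hk) i := by
  have hkv : (ksucc k hk).val = k.val + 1 := rfl
  rw [Fin.lt_def] at hij ⊢
  have hiv : ∀ x : Fin n, (Equiv.swap k (ksucc k hk) x).val =
      if x = k then k.val + 1 else if x = ksucc k hk then k.val else x.val := by
    intro x
    rw [Equiv.swap_apply_def]
    split_ifs <;> simp [hkv]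
  rw [hiv i, hiv j]
  have e1 : ∀ x : Fin n, x = k ↔ x.val = k.val := fun x => Fin.ext_iff
  have e2 : ∀ x : Fin n, x = ksucc k hk ↔ x.val = k.val + 1 := fun x => by
    rw [Fin.ext_iff, hkv]
  simp only [e1, e2] at hne ⊢
  split_ifs <;> omega

/-- conjugating by the simple reflection preserves unitriangular matrices with vanishing
`(k, k+1)` entry -/
theorem sk_conj_UT {u : Matrix.SpecialLinearGroup (Fin n) F} (hu : u ∈ UT n F)
    (h0 : (u : Matrix (Fin n) (Fin n) F) k (ksucc k hk) = 0) :
    (sk k hk)⁻¹ * u * sk k hk ∈ UT n F := by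
  obtain ⟨hu0, hu1⟩ := mem_UT.mp hu
  rw [mem_UT]
  constructor
  · intro i j hij
    rw [conj_mono_apply (sk k hk) u _ _ (sk_coe k hk)]
    by_cases hc : i = ksucc k hk ∧ j = k
    · rw [hc.1, hc.2, Equiv.swap_apply_right, Equiv.swap_apply_left, h0, mul_zero, zero_mul]
    · rw [hu0 _ _ (swap_lt_of_lt k hk hij hc), mul_zero, zero_mul]
  · intro i
    rw [conj_mono_apply (sk k hk) u _ _ (sk_coe k hk), hu1, mul_one,
      inv_mul_cancel₀ (skd_ne_zero k i)]

/-- conjugating a diagonal matrix by the simple reflection -/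
theorem sk_conj_TT {t : Matrix.SpecialLinearGroup (Fin n) F} (ht : t ∈ TT n F) :
    (sk k hk)⁻¹ * t * sk k hk ∈ TT n F := by
  intro i j hij
  rw [conj_mono_apply (sk k hk) t _ _ (sk_coe k hk), ht _ _ (by simpa using hij), mul_zero,
    zero_mul]

theorem sk_conj_TT_diag {t : Matrix.SpecialLinearGroup (Fin n) F} (i : Fin n) :
    (((sk k hk)⁻¹ * t * sk k hk : Matrix.SpecialLinearGroup (Fin n) F) :
      Matrix (Fin n) (Fin n) F) i i =
      (t : Matrix (Fin n) (Fin n) F) (Equiv.swap k (ksucc k hk) i) (Equiv.swap k (ksucc k hk) i) := by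
  rw [conj_mono_apply (sk k hk) t _ _ (sk_coe k hk), mul_comm, ← mul_assoc,
    mul_inv_cancel₀ (skd_ne_zero k i), one_mul]

/-- conjugating the positive root element by the simple reflection gives a negative one -/
theorem sk_conj_xr (a : F) :
    (sk k hk)⁻¹ * xr k (ksucc k hk) (k_ne_ksucc k hk) a * sk k hk =
      xr (ksucc k hk) k (k_ne_ksucc k hk).symm (-a) := by
  have h : xr k (ksucc k hk) (k_ne_ksucc k hk) a * sk k hk =
      sk k hk * xr (ksucc k hk) k (k_ne_ksucc k hk).symm (-a) := by
    apply Subtype.ext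
    rw [Matrix.SpecialLinearGroup.coe_mul, Matrix.SpecialLinearGroup.coe_mul, xr_coe, xr_coe,
      sk_coe, transvection_mul_mono _ _ (skd_ne_zero k)]
    have e1 : (Equiv.swap k (ksucc k hk))⁻¹ k = ksucc k hk := by simp
    have e2 : (Equiv.swap k (ksucc k hk))⁻¹ (ksucc k hk) = k := by simp
    rw [e1, e2]
    congr 2
    unfold skd
    rw [if_pos rfl, if_neg (k_ne_ksucc k hk).symm]
    simp
  rw [mul_assoc, h, inv_mul_cancel_left]

/-- the coefficient vector of the monomial part of a negative root element -/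
def nbd (b : F) : Fin n → F := fun c => if c = k then b else if c = ksucc k hk then -b⁻¹ else 1

theorem nbd_ne_zero {b : F} (hb : b ≠ 0) (c : Fin n) : nbd k hk b c ≠ 0 := by
  unfold nbd
  split_ifs
  · exact hb
  · exact neg_ne_zero.mpr (inv_ne_zero hb)
  · exact one_ne_zero

/-- the `SL₂` identity `x₋(b) = x₊(1/b) n(b) x₊(1/b)`, inside `SL_n` -/
theorem transvection_neg_eq {b : F} (hb : b ≠ 0) :
    Matrix.transvection (ksucc k hk) k b =
      Matrix.transvection k (ksucc k hk) b⁻¹ *
        (mono (Equiv.swap k (ksucc k hk)) (nbd k hk b) *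
          Matrix.transvection k (ksucc k hk) b⁻¹) := by
  have hne := k_ne_ksucc k hk
  have hL : ∀ (M : Matrix (Fin n) (Fin n) F) (r s : Fin n),
      (Matrix.transvection k (ksucc k hk) b⁻¹ * M) r s =
        M r s + if r = k then b⁻¹ * M (ksucc k hk) s else 0 := by
    intro M r s
    by_cases hr : r = k
    · subst hr
      rw [Matrix.transvection_mul_apply_same, if_pos rfl]
    · rw [Matrix.transvection_mul_apply_of_ne _ _ _ _ hr, if_neg hr, add_zero]
  have hR : ∀ (M : Matrix (Fin n) (Fin n) F) (r s : Fin n),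
      (M * Matrix.transvection k (ksucc k hk) b⁻¹) r s =
        M r s + if s = ksucc k hk then b⁻¹ * M r k else 0 := by
    intro M r s
    by_cases hs : s = ksucc k hk
    · subst hs
      rw [Matrix.mul_transvection_apply_same, if_pos rfl]
    · rw [Matrix.mul_transvection_apply_of_ne _ _ _ _ hs, if_neg hs, add_zero]
  ext r s
  rw [hL, hR, hR, transvection_apply]
  simp only [mono_apply, nbd]
  have hsw1 : Equiv.swap k (ksucc k hk) k = ksucc k hk := Equiv.swap_apply_left _ _
  have hsw2 : Equiv.swap k (ksucc k hk) (ksucc k hk) = k := Equiv.swap_apply_right _ _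
  by_cases hr : r = k
  · subst hr
    by_cases hs : s = r
    · subst hs
      simp [hsw1, hsw2, hne, hne.symm, hb]
    · by_cases hs' : s = ksucc r hk
      · subst hs'
        simp [hsw1, hsw2, hne, hne.symm, hb]
      · have hsw : Equiv.swap r (ksucc r hk) s = s := Equiv.swap_apply_of_ne_of_ne hs hs'
        have h1 : ¬ r = s := fun e => hs e.symm
        have h2 : ¬ ksucc r hk = s := fun e => hs' e.symm
        simp [hsw, hs, hs', h1, h2, hne, hne.symm]
  · by_cases hr' : r = ksucc k hk
    · subst hr'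
      by_cases hs : s = k
      · subst hs
        simp [hsw1, hsw2, hne, hne.symm, hb]
      · by_cases hs' : s = ksucc k hk
        · subst hs'
          simp [hsw1, hsw2, hne, hne.symm, hb]
        · have hsw : Equiv.swap k (ksucc k hk) s = s := Equiv.swap_apply_of_ne_of_ne hs hs'
          have h1 : ¬ k = s := fun e => hs e.symm
          have h2 : ¬ ksucc k hk = s := fun e => hs' e.symm
          simp [hsw, hs, hs', h1, h2, hne, hne.symm]
    · have h3 : ¬ k = r := fun e => hr e.symm
      have h4 : ¬ ksucc k hk = r := fun e => hr' e.symm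
      by_cases hs : s = k
      · subst hs
        simp [hsw1, hsw2, hne, hne.symm, hr, hr', h3, h4]
      · by_cases hs' : s = ksucc k hk
        · subst hs'
          simp [hsw1, hsw2, hne, hne.symm, hr, hr', h3, h4]
        · have hsw : Equiv.swap k (ksucc k hk) s = s := Equiv.swap_apply_of_ne_of_ne hs hs'
          have h1 : ¬ k = s := fun e => hs e.symm
          have h2 : ¬ ksucc k hk = s := fun e => hs' e.symm
          simp [hsw, hs, hs', h1, h2, h3, h4, hne, hne.symm, hr, hr']

end Reflection

end Cfsg.Agent.Lib.Helper47.DefChar
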