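import Mathlib
import Cfsg.Agent.Lib.Helper47.DefChar.Reflection
import Cfsg.Agent.Lib.Helper05.CharOrtho
import Cfsg.Agent.Lib.Helper05.CharBasic
import Cfsg.Agent.Lib.Helper03.FrobLin

set_option autoImplicit false
set_option linter.unusedSectionVars false

/-!
# Irreducible characters of `SL_n(q)` vanishing on `p`-singular elements, part 1

The `U`-fixed space of such a representation is a line, spanned by an eigenvector of the torus.
-/

namespace Cfsg.Agent.Lib.Helper47.DefChar

open Finset Module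
open Cfsg.Agent.Lib.Helper07 (UT mem_UT)

variable {n : ℕ} {F : Type*} [Field F] [Fintype F]


section General

variable {G : Type*} [Group G] {V : Type*} [AddCommGroup V] [Module ℂ V]

/-- a linear map killing the orbit of a nonzero vector of an irreducible representation vanishes -/
theorem eq_zero_of_orbit {W : Type*} [AddCommGroup W] [Module ℂ W] (ρ : Representation ℂ G V)
    (hirr : ρ.IsIrreducible) {v : V} (hv : v ≠ 0) (Λ : V →ₗ[ℂ] W) (h : ∀ g, Λ (ρ g v) = 0) :
    Λ = 0 := by
  obtain ⟨_, hsub⟩ := (Cfsg.Agent.Lib.Helper05.isIrreducible_iff ρ).mp hirr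
  set S : Submodule ℂ V := Submodule.span ℂ (Set.range fun g => ρ g v) with hS
  have hinv : ∀ g : G, ∀ x ∈ S, ρ g x ∈ S := by
    intro g x hx
    rw [hS] at hx ⊢
    induction hx using Submodule.span_induction with
    | mem y hy =>
      obtain ⟨g', rfl⟩ := hy
      apply Submodule.subset_span
      refine ⟨g * g', ?_⟩
      simp only [map_mul, Module.End.mul_apply]
    | zero => rw [map_zero]; exact Submodule.zero_mem _
    | add x y _ _ hx hy => rw [map_add]; exact Submodule.add_mem _ hx hy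
    | smul a x _ hx => rw [map_smul]; exact Submodule.smul_mem _ a hx
  have hvS : v ∈ S := by
    apply Submodule.subset_span
    exact ⟨1, by simp⟩
  rcases hsub S hinv with h0 | h1
  · exfalso
    rw [h0, Submodule.mem_bot] at hvS
    exact hv hvS
  · have hle : S ≤ LinearMap.ker Λ := by
      rw [hS, Submodule.span_le]
      rintro _ ⟨g, rfl⟩
      exact h g
    rw [h1, top_le_iff, LinearMap.ker_eq_top] at hle
    exact hle

end General

section Unip

variable (p : ℕ) [Fact p.Prime] [CharP F p]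

omit [Fintype F] in
theorem card_eq_pow_of_charP [Fintype F] : ∃ f : ℕ, 1 ≤ f ∧ Fintype.card F = p ^ f := by
  obtain ⟨f, _, hf⟩ := FiniteField.card F p
  exact ⟨f, f.2, hf⟩

/-- nontrivial unitriangular elements are `p`-singular -/
theorem dvd_orderOf_of_mem_UT {u : (Matrix.SpecialLinearGroup (Fin n) F)} (hu : u ∈ UT n F) (h1 : u ≠ 1) : p ∣ orderOf u := by
  obtain ⟨f, _, hf⟩ := card_eq_pow_of_charP (F := F) p
  have hP : IsPGroup p (UT n F) := Cfsg.Agent.Lib.Helper07.isPGroup_UT (p := p) hf
  obtain ⟨k, hk⟩ := hP ⟨u, hu⟩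
  have hk' : u ^ p ^ k = 1 := by
    have := congrArg Subtype.val hk
    simpa using this
  have hdvd : orderOf u ∣ p ^ k := orderOf_dvd_of_pow_eq_one hk'
  obtain ⟨j, _, hj⟩ := (Nat.dvd_prime_pow (Fact.out : p.Prime)).mp hdvd
  rw [hj]
  rcases Nat.eq_zero_or_pos j with h0 | hpos
  · exfalso
    rw [h0, pow_zero, orderOf_eq_one_iff] at hj
    exact h1 hj
  · exact dvd_pow_self p hpos.ne'

end Unip

section Rep

variable (p : ℕ) [Fact p.Prime] [CharP F p]
variable {d : ℕ} (ρ : Representation ℂ (Matrix.SpecialLinearGroup (Fin n) F) (Fin d → ℂ))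

/-- the restriction to `U` -/
noncomputable abbrev rhoU : Representation ℂ (UT n F) (Fin d → ℂ) :=
  MonoidHom.comp ρ (UT n F).subtype

/-- the `U`-fixed vectors -/
noncomputable abbrev invU : Submodule ℂ (Fin d → ℂ) := Representation.invariants (rhoU ρ)

theorem mem_invU (x : Fin d → ℂ) : x ∈ invU ρ ↔ ∀ u ∈ UT n F, ρ u x = x := by
  rw [Representation.mem_invariants]
  constructor
  · intro h u hu
    exact h ⟨u, hu⟩
  · intro h u
    exact h u.1 u.2

theorem finrank_invU_mul (hvan : ∀ g : (Matrix.SpecialLinearGroup (Fin n) F), p ∣ orderOf g → ρ.character g = 0) :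
    (finrank ℂ (invU ρ) : ℂ) * (Nat.card (UT n F) : ℂ) = (d : ℂ) := by
  classical
  let _ : Fintype (UT n F) := Fintype.ofFinite _
  have hne : (Nat.card (UT n F) : ℂ) ≠ 0 := by exact_mod_cast Nat.card_pos.ne'
  have : Invertible (Nat.card (UT n F) : ℂ) := invertibleOfNonzero hne
  have h := Representation.card_inv_mul_sum_char_eq_finrank (rhoU ρ)
  rw [← h]
  have hsum : ∑ u : UT n F, (rhoU ρ).character u = (d : ℂ) := by
    rw [Finset.sum_eq_single (1 : UT n F)]
    · rw [Representation.char_one]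
      simp
    · intro u _ hu
      have hu1 : (u : (Matrix.SpecialLinearGroup (Fin n) F)) ≠ 1 := fun e => hu (Subtype.ext e)
      have := hvan u (dvd_orderOf_of_mem_UT p u.2 hu1)
      simpa [Representation.character] using this
    · intro h; exact absurd (mem_univ _) h
  rw [hsum]
  field_simp

/-- the additive character of `U` through the superdiagonal, as a homomorphism -/
noncomputable def psiHom (ψ₀ : AddChar F ℂ) : (UT n F) →* ℂˣ :=
  MonoidHom.toHomUnits
    { toFun := fun u => ψ₀ (supSum ((u : (Matrix.SpecialLinearGroup (Fin n) F)) : Matrix (Fin n) (Fin n) F))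
      map_one' := by
        change ψ₀ (supSum (((1 : (Matrix.SpecialLinearGroup (Fin n) F))) : Matrix (Fin n) (Fin n) F)) = 1
        rw [Matrix.SpecialLinearGroup.coe_one, supSum_one, AddChar.map_zero_eq_one]
      map_mul' := by
        intro u u'
        change ψ₀ (supSum ((((u : (Matrix.SpecialLinearGroup (Fin n) F)) * (u' : (Matrix.SpecialLinearGroup (Fin n) F)) : (Matrix.SpecialLinearGroup (Fin n) F))) : Matrix (Fin n) (Fin n) F)) = _
        rw [supSum_mul u.2 u'.2, AddChar.map_add_eq_mul] }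

theorem psiHom_apply (ψ₀ : AddChar F ℂ) (u : UT n F) :
    ((psiHom ψ₀ u : ℂˣ) : ℂ) = ψ₀ (supSum ((u : (Matrix.SpecialLinearGroup (Fin n) F)) : Matrix (Fin n) (Fin n) F)) := rfl

/-- the Whittaker functionals -/
abbrev WhIM (ψ₀ : AddChar F ℂ) :=
  Representation.IntertwiningMap (rhoU ρ)
    (Cfsg.Agent.Lib.Helper05.linRep (psiHom (n := n) ψ₀))

theorem whIM_apply (ψ₀ : AddChar F ℂ) (Λ : WhIM ρ ψ₀) {u : (Matrix.SpecialLinearGroup (Fin n) F)} (hu : u ∈ UT n F)
    (x : Fin d → ℂ) :
    Λ (ρ u x) 0 = ψ₀ (supSum (u : Matrix (Fin n) (Fin n) F)) * Λ x 0 := by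
  have h := Representation.IntertwiningMap.isIntertwining _ _ Λ (⟨u, hu⟩ : UT n F) x
  have h2 := congrFun h 0
  rw [show (rhoU ρ) (⟨u, hu⟩ : UT n F) x = ρ u x from rfl] at h2
  rw [h2]
  change ((psiHom (n := n) ψ₀ ⟨u, hu⟩ : ℂˣ) : ℂ) • (Λ x) 0 = _
  rw [psiHom_apply, smul_eq_mul]

theorem finrank_whIM_mul (ψ₀ : AddChar F ℂ)
    (hvan : ∀ g : (Matrix.SpecialLinearGroup (Fin n) F), p ∣ orderOf g → ρ.character g = 0) :
    (finrank ℂ (WhIM ρ ψ₀) : ℂ) * (Nat.card (UT n F) : ℂ) = (d : ℂ) := by
  classical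
  let _ : Fintype (UT n F) := Fintype.ofFinite _
  have hne : (Nat.card (UT n F) : ℂ) ≠ 0 := by exact_mod_cast Nat.card_pos.ne'
  have : Invertible (Nat.card (UT n F) : ℂ) := invertibleOfNonzero hne
  have h := Representation.card_inv_mul_sum_char_mul_char_eq_finrank (rhoU ρ)
    (Cfsg.Agent.Lib.Helper05.linRep (psiHom (n := n) ψ₀))
  rw [← h]
  have hsum : ∑ u : UT n F, (Cfsg.Agent.Lib.Helper05.linRep (psiHom (n := n) ψ₀)).character u *
      (rhoU ρ).character u⁻¹ = (d : ℂ) := by
    rw [Finset.sum_eq_single (1 : UT n F)]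
    · rw [inv_one, Representation.char_one, Representation.char_one]
      simp
    · intro u _ hu
      have hu1 : ((u⁻¹ : UT n F) : (Matrix.SpecialLinearGroup (Fin n) F)) ≠ 1 := by
        intro e
        apply hu
        have : u⁻¹ = 1 := Subtype.ext e
        exact inv_eq_one.mp this
      have := hvan (u⁻¹ : UT n F) (dvd_orderOf_of_mem_UT p (u⁻¹).2 hu1)
      have h0 : (rhoU ρ).character u⁻¹ = 0 := by
        simpa [Representation.character] using this
      rw [h0, mul_zero]
    · intro h; exact absurd (mem_univ _) h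
  rw [hsum]
  field_simp

end Rep

end Cfsg.Agent.Lib.Helper47.DefChar
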