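import Mathlib
import Cfsg.Agent.Lib.Helper47.DefChar.Core1

set_option autoImplicit false
set_option linter.unusedSectionVars false

/-!
# Irreducible characters of `SL_n(q)` vanishing on `p`-singular elements, part 2

The `U`-fixed space is a line.
-/

namespace Cfsg.Agent.Lib.Helper47.DefChar

open Finset Module
open Cfsg.Agent.Lib.Helper07 (UT mem_UT)

variable {n : ℕ} {F : Type*} [Field F] [Fintype F]

/-- monomial matrices of determinant one exist for every permutation -/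
theorem exists_mono_SL (hn : 0 < n) (π : Equiv.Perm (Fin n)) :
    ∃ (w : Matrix.SpecialLinearGroup (Fin n) F) (d : Fin n → F),
      (w : Matrix (Fin n) (Fin n) F) = mono π d := by
  classical
  set c₀ : Fin n := ⟨0, hn⟩
  set d : Fin n → F := fun c => if c = c₀ then (((Equiv.Perm.sign π : ℤˣ) : ℤ) : F) else 1 with hd
  have hdet : (mono π d).det = 1 := by
    rw [det_mono, hd, Finset.prod_ite_eq' univ c₀ (fun _ => (((Equiv.Perm.sign π : ℤˣ) : ℤ) : F))]
    simp only [mem_univ, if_true]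
    rw [← Int.cast_mul, ← Units.val_mul, Int.units_mul_self]
    simp
  exact ⟨⟨_, hdet⟩, d, rfl⟩

variable {d : ℕ} (ρ : Representation ℂ (Matrix.SpecialLinearGroup (Fin n) F) (Fin d → ℂ))

theorem invU_stable {t : Matrix.SpecialLinearGroup (Fin n) F} (ht : t ∈ TT n F)
    {x : Fin d → ℂ} (hx : x ∈ invU ρ) : ρ t x ∈ invU ρ := by
  rw [mem_invU] at hx ⊢
  intro u hu
  have h1 : u * t = t * (t⁻¹ * u * t) := by group
  rw [← Module.End.mul_apply, ← map_mul, h1, map_mul, Module.End.mul_apply,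
    hx _ (TT_conj_UT ht hu)]

/-- a torus eigenvector among the `U`-fixed vectors -/
theorem exists_eigenvector (hpos : 0 < finrank ℂ (invU ρ)) :
    ∃ (v : Fin d → ℂ) (θ : Matrix.SpecialLinearGroup (Fin n) F → ℂ), v ≠ 0 ∧ v ∈ invU ρ ∧
      ∀ t ∈ TT n F, ρ t v = θ t • v := by
  classical
  let ρT : Representation ℂ (TT n F) (Fin d → ℂ) := MonoidHom.comp ρ (TT n F).subtype
  have hle : ∀ g : TT n F, invU ρ ≤ (invU ρ).comap (ρT g) := fun g x hx =>
    invU_stable ρ g.2 hx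
  let σ : Representation ℂ (TT n F) (invU ρ) := Representation.subrepresentation ρT (invU ρ) hle
  have : Nontrivial (invU ρ) := Module.finrank_pos_iff.mp hpos
  have hA : (Nat.card (⊤ : Subgroup (TT n F)) : ℂ) ≠ 0 := by
    exact_mod_cast Nat.card_pos.ne'
  have hcomm : ∀ a ∈ (⊤ : Subgroup (TT n F)), ∀ b ∈ (⊤ : Subgroup (TT n F)),
      σ a * σ b = σ b * σ a := by
    intro a _ b _
    rw [← map_mul, ← map_mul]
    congr 1
    exact Subtype.ext (TT_comm a.2 b.2)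
  obtain ⟨χ', w, hw, -, hχ'⟩ :=
    Cfsg.Agent.Lib.Helper03.FrobLin.exists_common_eigenvector σ ⊤ hA hcomm
  refine ⟨(w : Fin d → ℂ), fun t => if h : t ∈ TT n F then χ' ⟨t, h⟩ else 0, ?_, w.2, ?_⟩
  · intro e
    apply hw
    exact Subtype.ext e
  · intro t ht
    change ρ t (w : Fin d → ℂ) = (if h : t ∈ TT n F then χ' ⟨t, h⟩ else 0) • (w : Fin d → ℂ)
    rw [dif_pos ht]
    have := hχ' ⟨t, ht⟩ (Subgroup.mem_top _)
    have h2 := congrArg Subtype.val this
    simpa [σ, ρT] using h2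

/-- evaluation of Whittaker functionals at a vector -/
noncomputable def whEv (ψ₀ : AddChar F ℂ) (x : Fin d → ℂ) : WhIM ρ ψ₀ →ₗ[ℂ] ℂ :=
  (LinearMap.proj (0 : Fin 1)).comp
    ((LinearMap.applyₗ x).comp (Representation.IntertwiningMap.toLinearMapl _ _))

theorem whEv_apply (ψ₀ : AddChar F ℂ) (x : Fin d → ℂ) (Λ : WhIM ρ ψ₀) :
    whEv ρ ψ₀ x Λ = Λ x 0 := rfl

/-- a Whittaker functional vanishing at `w₀ v` for a Borel eigenvector `v` vanishes -/
theorem whIM_eq_zero (hirr : ρ.IsIrreducible) (ψ₀ : AddChar F ℂ) (hψ₀ : ∃ c, ψ₀ c ≠ 1)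
    {v : Fin d → ℂ} (hv : v ≠ 0) (hvU : v ∈ invU ρ)
    (θ : Matrix.SpecialLinearGroup (Fin n) F → ℂ) (hθ : ∀ t ∈ TT n F, ρ t v = θ t • v)
    (w₀ : Matrix.SpecialLinearGroup (Fin n) F) (d₀ : Fin n → F)
    (hw₀ : (w₀ : Matrix (Fin n) (Fin n) F) = mono Fin.revPerm d₀)
    (Λ : WhIM ρ ψ₀) (h0 : Λ (ρ w₀ v) 0 = 0) : Λ = 0 := by
  rw [mem_invU] at hvU
  have hf : ∀ g, Λ (ρ g v) 0 = 0 := by
    apply whittaker_unique (fun c => ψ₀ c) hψ₀ (fun g => Λ (ρ g v) 0) ?_ ?_ ?_ w₀ d₀ hw₀ h0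
    · intro u hu g
      rw [map_mul, Module.End.mul_apply, whIM_apply ρ ψ₀ Λ hu]
    · intro u hu g
      rw [map_mul, Module.End.mul_apply, hvU u hu]
    · intro t ht g hg
      change Λ (ρ g v) 0 = 0 at hg
      rw [map_mul, Module.End.mul_apply, hθ t (mem_TT.mpr ht), map_smul, map_smul, Pi.smul_apply,
        hg, smul_zero]
  have hlin : Λ.toLinearMap = 0 := by
    apply eq_zero_of_orbit ρ hirr hv
    intro g
    funext i
    have hi : i = 0 := Subsingleton.elim _ _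
    rw [hi]
    exact hf g
  apply Representation.IntertwiningMap.ext
  rw [hlin]
  rfl

/-- **the `U`-fixed space is a line** -/
theorem finrank_invU_eq_one (p : ℕ) [Fact p.Prime] [CharP F p] (hn : 0 < n)
    (hirr : ρ.IsIrreducible)
    (hvan : ∀ g : Matrix.SpecialLinearGroup (Fin n) F, p ∣ orderOf g → ρ.character g = 0) :
    finrank ℂ (invU ρ) = 1 := by
  obtain ⟨hnt, -⟩ := (Cfsg.Agent.Lib.Helper05.isIrreducible_iff ρ).mp hirr
  have hd : d ≠ 0 := by
    rintro rfl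
    exact not_subsingleton (Fin 0 → ℂ) inferInstance
  have hUpos : 0 < Nat.card (UT n F) := Nat.card_pos
  have h1 := finrank_invU_mul p ρ hvan
  have h1' : finrank ℂ (invU ρ) * Nat.card (UT n F) = d := by exact_mod_cast h1
  have hpos : 0 < finrank ℂ (invU ρ) := by
    rcases Nat.eq_zero_or_pos (finrank ℂ (invU ρ)) with h | h
    · rw [h, zero_mul] at h1'
      exact absurd h1'.symm hd
    · exact h
  obtain ⟨v, θ, hv, hvU, hθ⟩ := exists_eigenvector ρ hpos
  obtain ⟨ψ₀, hψ₀⟩ := (AddChar.exists_apply_ne_zero (α := F) (a := 1)).mpr one_ne_zero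
  obtain ⟨w₀, d₀, hw₀⟩ := exists_mono_SL (F := F) hn Fin.revPerm
  have h2 := finrank_whIM_mul p ρ ψ₀ hvan
  have h2' : finrank ℂ (WhIM ρ ψ₀) * Nat.card (UT n F) = d := by exact_mod_cast h2
  have heq : finrank ℂ (WhIM ρ ψ₀) = finrank ℂ (invU ρ) := by
    have : finrank ℂ (WhIM ρ ψ₀) * Nat.card (UT n F) =
        finrank ℂ (invU ρ) * Nat.card (UT n F) := by rw [h1', h2']
    exact Nat.eq_of_mul_eq_mul_right hUpos this
  have hinj : Function.Injective (whEv ρ ψ₀ (ρ w₀ v)) := by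
    rw [← LinearMap.ker_eq_bot, LinearMap.ker_eq_bot']
    intro Λ hΛ
    rw [whEv_apply] at hΛ
    exact whIM_eq_zero ρ hirr ψ₀ ⟨1, hψ₀⟩ hv hvU θ hθ w₀ d₀ hw₀ Λ hΛ
  have hle := LinearMap.finrank_le_finrank_of_injective hinj
  rw [Module.finrank_self, heq] at hle
  omega

end Cfsg.Agent.Lib.Helper47.DefChar
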