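import Mathlib

set_option autoImplicit false
set_option linter.unusedSimpArgs false

/-!
# A multiplicative function on the diagonal torus of `SL_n`, `n ≥ 3`, that is invariant under
adjacent transpositions is trivial
-/

namespace Cfsg.Agent.Lib.Helper47.DefChar

open Finset

variable {n : ℕ} {F : Type*} [Field F]

/-- the coroot vector `h_k(a)` -/
def hvec (k k' : Fin n) (a : F) : Fin n → F :=
  fun i => if i = k then a else if i = k' then a⁻¹ else 1

theorem prod_hvec {k k' : Fin n} (hkk' : k ≠ k') {a : F} (ha : a ≠ 0) :
    ∏ i, hvec k k' a i = 1 := by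
  classical
  unfold hvec
  rw [← Finset.mul_prod_erase univ _ (mem_univ k), if_pos rfl,
    ← Finset.mul_prod_erase (univ.erase k) _ (Finset.mem_erase.mpr ⟨hkk'.symm, mem_univ k'⟩),
    if_neg hkk'.symm, if_pos rfl, Finset.prod_eq_one, mul_one, mul_inv_cancel₀ ha]
  intro i hi
  rw [Finset.mem_erase, Finset.mem_erase] at hi
  rw [if_neg hi.2.1, if_neg hi.1]

theorem ne_zero_of_prod_eq_one {e : Fin n → F} (he : ∏ i, e i = 1) (i : Fin n) : e i ≠ 0 := by
  intro h
  rw [Finset.prod_eq_zero (mem_univ i) h] at he
  exact zero_ne_one he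

/-- the abstract triviality statement -/
theorem theta_trivial (hn : 3 ≤ n) (Θ : (Fin n → F) → ℂ)
    (hmul : ∀ e e' : Fin n → F, ∏ i, e i = 1 → ∏ i, e' i = 1 → Θ (e * e') = Θ e * Θ e')
    (hne : ∀ e : Fin n → F, ∏ i, e i = 1 → Θ e ≠ 0)
    (hsw : ∀ (k k' : Fin n), k'.val = k.val + 1 → ∀ e : Fin n → F, ∏ i, e i = 1 →
      Θ (e ∘ Equiv.swap k k') = Θ e) :
    ∀ e : Fin n → F, ∏ i, e i = 1 → Θ e = 1 := by
  classical
  -- the value at the identity
  have hone : Θ 1 = 1 := by
    have h1 : ∏ i : Fin n, (1 : Fin n → F) i = 1 := by simp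
    have h := hmul 1 1 h1 h1
    rw [one_mul] at h
    have hz := hne 1 h1
    exact (mul_left_cancel₀ hz (by rw [← h, mul_one])).symm
  -- three consecutive indices
  have hthree : ∀ (k k' k'' : Fin n), k'.val = k.val + 1 → k''.val = k.val + 2 → ∀ a : F, a ≠ 0 →
      Θ (hvec k k' a) = 1 ∧ Θ (hvec k' k'' a) = 1 := by
    intro k k' k'' hk' hk'' a ha
    have hkk' : k ≠ k' := fun e => by have := congrArg Fin.val e; omega
    have hkk'' : k ≠ k'' := fun e => by have := congrArg Fin.val e; omega
    have hk'k'' : k' ≠ k'' := fun e => by have := congrArg Fin.val e; omega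
    have hp1 := prod_hvec hkk' ha
    have hp2 := prod_hvec hk'k'' ha
    have e1 : hvec k k' a ∘ Equiv.swap k' k'' = hvec k k' a * hvec k' k'' a := by
      funext i
      simp only [Function.comp_apply, Pi.mul_apply, hvec]
      by_cases h1 : i = k
      · subst h1
        rw [Equiv.swap_apply_of_ne_of_ne hkk' hkk'']
        simp [hkk', hkk'']
      · by_cases h2 : i = k'
        · subst h2
          rw [Equiv.swap_apply_left]
          simp [hkk''.symm, hk'k''.symm, hkk'.symm, ha]
        · by_cases h3 : i = k''
          · subst h3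
            rw [Equiv.swap_apply_right]
            simp [hkk'.symm, hkk''.symm, hk'k''.symm]
          · rw [Equiv.swap_apply_of_ne_of_ne h2 h3]
            simp [h1, h2, h3]
    have e2 : hvec k' k'' a ∘ Equiv.swap k k' = hvec k k' a * hvec k' k'' a := by
      funext i
      simp only [Function.comp_apply, Pi.mul_apply, hvec]
      by_cases h1 : i = k
      · subst h1
        rw [Equiv.swap_apply_left]
        simp [hkk', hkk'']
      · by_cases h2 : i = k'
        · subst h2
          rw [Equiv.swap_apply_right]
          simp [hkk', hkk'', hkk'.symm, ha]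
        · by_cases h3 : i = k''
          · subst h3
            rw [Equiv.swap_apply_of_ne_of_ne hkk''.symm hk'k''.symm]
            simp [hkk'.symm, hkk''.symm, hk'k''.symm]
          · rw [Equiv.swap_apply_of_ne_of_ne h1 h2]
            simp [h1, h2, h3]
    have h1 := hsw k' k'' (by omega) (hvec k k' a) hp1
    rw [e1, hmul _ _ hp1 hp2] at h1
    have h2 := hsw k k' hk' (hvec k' k'' a) hp2
    rw [e2, hmul _ _ hp1 hp2] at h2
    have hz1 := hne _ hp1
    have hz2 := hne _ hp2
    constructor
    · have : Θ (hvec k k' a) * Θ (hvec k' k'' a) = 1 * Θ (hvec k' k'' a) := by rw [h2, one_mul]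
      exact mul_right_cancel₀ hz2 this
    · have : Θ (hvec k k' a) * Θ (hvec k' k'' a) = Θ (hvec k k' a) * 1 := by rw [h1, mul_one]
      exact mul_left_cancel₀ hz1 this
  have hgen : ∀ (k k' : Fin n), k'.val = k.val + 1 → ∀ a : F, a ≠ 0 → Θ (hvec k k' a) = 1 := by
    intro k k' hk' a ha
    by_cases h2 : k.val + 2 < n
    · exact (hthree k k' ⟨k.val + 2, h2⟩ hk' rfl a ha).1
    · have hk1 : 1 ≤ k.val := by have := k'.2; omega
      have hlt : k.val - 1 < n := by have := k.2; omega
      exact (hthree ⟨k.val - 1, hlt⟩ k k' (by simp; omega) (by simp; omega) a ha).2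
  -- induction on the number of leading ones
  have hind : ∀ j : ℕ, j < n → ∀ e : Fin n → F, ∏ i, e i = 1 →
      (∀ i : Fin n, i.val + j + 1 < n → e i = 1) → Θ e = 1 := by
    intro j
    induction j with
    | zero =>
      intro _ e he h1
      have hlast : e ⟨n - 1, by omega⟩ = 1 := by
        rw [← Finset.mul_prod_erase univ _ (mem_univ (⟨n - 1, by omega⟩ : Fin n)),
          Finset.prod_eq_one, mul_one] at he
        · exact he
        · intro i hi
          apply h1
          have hne' : i.val ≠ n - 1 := fun e' => (Finset.mem_erase.mp hi).1 (Fin.ext e')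
          have := i.2
          omega
      have : e = 1 := by
        funext i
        by_cases hi : i.val = n - 1
        · have : i = ⟨n - 1, by omega⟩ := Fin.ext hi
          rw [this, hlast]; rfl
        · apply h1
          have := i.2
          omega
      rw [this, hone]
    | succ j ih =>
      intro hj e he h1
      set k : Fin n := ⟨n - j - 2, by omega⟩ with hk
      set k' : Fin n := ⟨n - j - 1, by omega⟩ with hk'
      have hkk' : k'.val = k.val + 1 := by simp [hk, hk']; omega
      have hkne : k ≠ k' := fun e' => by have := congrArg Fin.val e'; omega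
      have hek : e k ≠ 0 := ne_zero_of_prod_eq_one he k
      have hp := prod_hvec hkne (inv_ne_zero hek)
      have hp' : ∏ i, (e * hvec k k' (e k)⁻¹) i = 1 := by
        simp only [Pi.mul_apply]
        rw [Finset.prod_mul_distrib, he, hp, one_mul]
      have h2 := ih (by omega) (e * hvec k k' (e k)⁻¹) hp' (by
        intro i hi
        rw [Pi.mul_apply]
        by_cases hik : i = k
        · rw [hik]
          unfold hvec
          rw [if_pos rfl, mul_inv_cancel₀ hek]
        · have hik' : i ≠ k' := by
            intro e'
            have := congrArg Fin.val e'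
            simp only [hk'] at this
            omega
          have h3 : e i = 1 := by
            apply h1
            have : i.val ≠ n - j - 2 := fun e' => hik (Fin.ext e')
            omega
          unfold hvec
          rw [if_neg hik, if_neg hik', h3, mul_one])
      rw [hmul _ _ he hp, hgen k k' hkk' _ (inv_ne_zero hek), mul_one] at h2
      exact h2
  intro e he
  have hn0 : n - 1 < n := by omega
  apply hind (n - 1) hn0 e he
  intro i hi
  omega

end Cfsg.Agent.Lib.Helper47.DefChar
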