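import Mathlib
import Cfsg.Agent.Lib.Helper47.DefChar.Core2
import Cfsg.Agent.Lib.Helper47.DefChar.ThetaTrivial

set_option autoImplicit false
set_option linter.unusedSectionVars false

/-!
# Irreducible characters of `SL_n(q)` vanishing on `p`-singular elements, part 3

When the `U`-fixed space is a line, the torus acts trivially on it (`n ≥ 3`).
-/

namespace Cfsg.Agent.Lib.Helper47.DefChar

open Finset Module
open Cfsg.Agent.Lib.Helper07 (UT mem_UT)

variable {n : ℕ} {F : Type*} [Field F] [Fintype F]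
variable {d : ℕ} (ρ : Representation ℂ (Matrix.SpecialLinearGroup (Fin n) F) (Fin d → ℂ))
variable [Fintype (UT n F)]

/-- the averaging operator over `U` -/
noncomputable def avgU : (Fin d → ℂ) →ₗ[ℂ] (Fin d → ℂ) :=
  (Nat.card (UT n F) : ℂ)⁻¹ • ∑ u : UT n F, ρ (u : Matrix.SpecialLinearGroup (Fin n) F)

theorem avgU_apply (x : Fin d → ℂ) :
    avgU ρ x = (Nat.card (UT n F) : ℂ)⁻¹ •
      ∑ u : UT n F, ρ (u : Matrix.SpecialLinearGroup (Fin n) F) x := by
  unfold avgU
  rw [LinearMap.smul_apply, LinearMap.sum_apply]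

theorem card_UT_ne_zero : (Nat.card (UT n F) : ℂ) ≠ 0 := by
  exact_mod_cast Nat.card_pos.ne'

theorem avgU_mem (x : Fin d → ℂ) : avgU ρ x ∈ invU ρ := by
  rw [mem_invU]
  intro u hu
  rw [avgU_apply, map_smul, map_sum]
  congr 1
  have h1 : ∀ u' : UT n F, ρ u (ρ (u' : Matrix.SpecialLinearGroup (Fin n) F) x) =
      ρ (((Equiv.mulLeft (⟨u, hu⟩ : UT n F)) u' : UT n F) : Matrix.SpecialLinearGroup (Fin n) F) x := by
    intro u'
    rw [← Module.End.mul_apply, ← map_mul]
    rfl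
  rw [Finset.sum_congr rfl (fun u' _ => h1 u')]
  exact Equiv.sum_comp (Equiv.mulLeft (⟨u, hu⟩ : UT n F))
    (fun w : UT n F => ρ (w : Matrix.SpecialLinearGroup (Fin n) F) x)

theorem avgU_of_mem {x : Fin d → ℂ} (hx : x ∈ invU ρ) : avgU ρ x = x := by
  rw [mem_invU] at hx
  rw [avgU_apply]
  have : ∑ u : UT n F, ρ (u : Matrix.SpecialLinearGroup (Fin n) F) x = (Nat.card (UT n F) : ℂ) • x := by
    rw [Finset.sum_congr rfl (fun u _ => hx u.1 u.2), Finset.sum_const, Finset.card_univ,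
      Nat.card_eq_fintype_card, Nat.cast_smul_eq_nsmul]
  rw [this, smul_smul, inv_mul_cancel₀ card_UT_ne_zero, one_smul]

theorem avgU_rho_UT {u : Matrix.SpecialLinearGroup (Fin n) F} (hu : u ∈ UT n F)
    (x : Fin d → ℂ) : avgU ρ (ρ u x) = avgU ρ x := by
  rw [avgU_apply, avgU_apply]
  congr 1
  have h1 : ∀ u' : UT n F, ρ (u' : Matrix.SpecialLinearGroup (Fin n) F) (ρ u x) =
      ρ (((Equiv.mulRight (⟨u, hu⟩ : UT n F)) u' : UT n F) : Matrix.SpecialLinearGroup (Fin n) F) x := by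
    intro u'
    rw [← Module.End.mul_apply, ← map_mul]
    rfl
  rw [Finset.sum_congr rfl (fun u' _ => h1 u')]
  exact Equiv.sum_comp (Equiv.mulRight (⟨u, hu⟩ : UT n F))
    (fun w : UT n F => ρ (w : Matrix.SpecialLinearGroup (Fin n) F) x)

theorem avgU_rho_TT {t : Matrix.SpecialLinearGroup (Fin n) F} (ht : t ∈ TT n F)
    (x : Fin d → ℂ) : avgU ρ (ρ t x) = ρ t (avgU ρ x) := by
  rw [avgU_apply, avgU_apply, map_smul, map_sum]
  congr 1
  let e : UT n F ≃ UT n F :=
    { toFun := fun u => ⟨t * u * t⁻¹, TT_conj_UT' ht u.2⟩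
      invFun := fun u => ⟨t⁻¹ * u * t, TT_conj_UT ht u.2⟩
      left_inv := fun u => by apply Subtype.ext; simp only; group
      right_inv := fun u => by apply Subtype.ext; simp only; group }
  rw [← Equiv.sum_comp e]
  apply Finset.sum_congr rfl
  intro u _
  rw [← Module.End.mul_apply, ← map_mul, ← Module.End.mul_apply, ← map_mul]
  congr 2
  change t * (u : Matrix.SpecialLinearGroup (Fin n) F) * t⁻¹ * t = t * u
  group

section Line

variable {v : Fin d → ℂ} (hv : v ≠ 0) (hvU : v ∈ invU ρ) (hline : finrank ℂ (invU ρ) = 1)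

include hv hvU hline in
theorem exists_smul_of_mem {y : Fin d → ℂ} (hy : y ∈ invU ρ) : ∃ c : ℂ, y = c • v := by
  have hv' : (⟨v, hvU⟩ : invU ρ) ≠ 0 := fun e => hv (congrArg Subtype.val e)
  obtain ⟨c, hc⟩ := (finrank_eq_one_iff_of_nonzero' (⟨v, hvU⟩ : invU ρ) hv').mp hline ⟨y, hy⟩
  exact ⟨c, (congrArg Subtype.val hc).symm⟩

/-- the coefficient functional: `avgU x = muU x • v` -/
noncomputable def muU (v : Fin d → ℂ) (i₀ : Fin d) : (Fin d → ℂ) →ₗ[ℂ] ℂ :=
  (v i₀)⁻¹ • (LinearMap.proj i₀).comp (avgU ρ)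

theorem muU_apply (i₀ : Fin d) (x : Fin d → ℂ) : muU ρ v i₀ x = (v i₀)⁻¹ * avgU ρ x i₀ := rfl

include hv hvU hline in
theorem avgU_eq_muU_smul {i₀ : Fin d} (hi₀ : v i₀ ≠ 0) (x : Fin d → ℂ) :
    avgU ρ x = muU ρ v i₀ x • v := by
  obtain ⟨c, hc⟩ := exists_smul_of_mem ρ hv hvU hline (avgU_mem ρ x)
  rw [muU_apply, hc, Pi.smul_apply, smul_eq_mul, mul_comm c, ← mul_assoc, inv_mul_cancel₀ hi₀,
    one_mul]

variable (θ : Matrix.SpecialLinearGroup (Fin n) F → ℂ) (hθ : ∀ t ∈ TT n F, ρ t v = θ t • v)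
variable {i₀ : Fin d} (hi₀ : v i₀ ≠ 0)

/-- the spherical matrix coefficient -/
noncomputable def f0 (v : Fin d → ℂ) (i₀ : Fin d) (g : Matrix.SpecialLinearGroup (Fin n) F) : ℂ :=
  muU ρ v i₀ (ρ g v)

include hvU hi₀ in
theorem f0_one : f0 ρ v i₀ 1 = 1 := by
  unfold f0
  rw [map_one, Module.End.one_apply, muU_apply, avgU_of_mem ρ hvU, inv_mul_cancel₀ hi₀]

theorem f0_UT_mul {u : Matrix.SpecialLinearGroup (Fin n) F} (hu : u ∈ UT n F)
    (g : Matrix.SpecialLinearGroup (Fin n) F) : f0 ρ v i₀ (u * g) = f0 ρ v i₀ g := by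
  unfold f0
  rw [map_mul, Module.End.mul_apply, muU_apply, muU_apply, avgU_rho_UT ρ hu]

include hvU in
theorem f0_mul_UT {u : Matrix.SpecialLinearGroup (Fin n) F} (hu : u ∈ UT n F)
    (g : Matrix.SpecialLinearGroup (Fin n) F) : f0 ρ v i₀ (g * u) = f0 ρ v i₀ g := by
  unfold f0
  rw [map_mul, Module.End.mul_apply, (mem_invU ρ v).mp hvU u hu]

include hθ in
theorem f0_mul_TT {t : Matrix.SpecialLinearGroup (Fin n) F} (ht : t ∈ TT n F)
    (g : Matrix.SpecialLinearGroup (Fin n) F) : f0 ρ v i₀ (g * t) = θ t * f0 ρ v i₀ g := by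
  unfold f0
  rw [map_mul, Module.End.mul_apply, hθ t ht, map_smul, map_smul, smul_eq_mul]

include hv hvU hline hθ hi₀ in
theorem f0_TT_mul {t : Matrix.SpecialLinearGroup (Fin n) F} (ht : t ∈ TT n F)
    (g : Matrix.SpecialLinearGroup (Fin n) F) : f0 ρ v i₀ (t * g) = θ t * f0 ρ v i₀ g := by
  unfold f0
  rw [map_mul, Module.End.mul_apply, muU_apply, avgU_rho_TT ρ ht,
    avgU_eq_muU_smul ρ hv hvU hline hi₀ (ρ g v), map_smul, hθ t ht, smul_smul, Pi.smul_apply,
    smul_eq_mul]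
  field_simp

/-- **the spherical coefficient does not vanish at a simple reflection** -/
theorem f0_sk_ne_zero (hv : v ≠ 0) (hvU : v ∈ invU ρ) (hline : finrank ℂ (invU ρ) = 1)
    (θ : Matrix.SpecialLinearGroup (Fin n) F → ℂ) (hθ : ∀ t ∈ TT n F, ρ t v = θ t • v)
    {i₀ : Fin d} (hi₀ : v i₀ ≠ 0) (k : Fin n) (hk : k.val + 1 < n) :
    f0 ρ v i₀ (sk k hk) ≠ 0 := by
  classical
  intro h0
  set s : Matrix.SpecialLinearGroup (Fin n) F := sk k hk with hs
  -- the average of `s v` vanishes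
  have hP : avgU ρ (ρ s v) = 0 := by
    rw [avgU_eq_muU_smul ρ hv hvU hline hi₀ (ρ s v)]
    change f0 ρ v i₀ s • v = 0
    rw [h0, zero_smul]
  -- hence a sum of coefficients vanishes
  have hsum : ∑ u : UT n F, f0 ρ v i₀ (s⁻¹ * (u : Matrix.SpecialLinearGroup (Fin n) F) * s) = 0 := by
    have h1 : ∑ u : UT n F, ρ (u : Matrix.SpecialLinearGroup (Fin n) F) (ρ s v) = 0 := by
      rw [avgU_apply] at hP
      rcases smul_eq_zero.mp hP with h | h
      · exact absurd h (inv_ne_zero card_UT_ne_zero)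
      · exact h
    have h2 := congrArg (fun y => muU ρ v i₀ (ρ s⁻¹ y)) h1
    simp only [map_sum, map_zero] at h2
    rw [← h2]
    apply Finset.sum_congr rfl
    intro u _
    unfold f0
    rw [map_mul, map_mul, Module.End.mul_apply, Module.End.mul_apply]
  -- evaluation of the coefficients
  have hval : ∀ u : UT n F, f0 ρ v i₀ (s⁻¹ * (u : Matrix.SpecialLinearGroup (Fin n) F) * s) =
      if ((u : Matrix.SpecialLinearGroup (Fin n) F) : Matrix (Fin n) (Fin n) F) k (ksucc k hk) = 0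
        then 1 else 0 := by
    intro u
    set a := ((u : Matrix.SpecialLinearGroup (Fin n) F) : Matrix (Fin n) (Fin n) F) k (ksucc k hk) with ha
    have hxa : xr k (ksucc k hk) (k_ne_ksucc k hk) (-a) ∈ UT n F := xr_mem_UT k (ksucc k hk) (k_lt_ksucc k hk) (-a)
    set u' : Matrix.SpecialLinearGroup (Fin n) F :=
      (u : Matrix.SpecialLinearGroup (Fin n) F) * xr k (ksucc k hk) (k_ne_ksucc k hk) (-a) with hu'
    have hu'U : u' ∈ UT n F := (UT n F).mul_mem u.2 hxa
    have hu'0 : (u' : Matrix (Fin n) (Fin n) F) k (ksucc k hk) = 0 := by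
      rw [hu', Matrix.SpecialLinearGroup.coe_mul, xr_coe, Matrix.mul_transvection_apply_same,
        (mem_UT.mp u.2).2 k, ← ha]
      ring
    have hdec : s⁻¹ * (u : Matrix.SpecialLinearGroup (Fin n) F) * s =
        (s⁻¹ * u' * s) * xr (ksucc k hk) k (k_ne_ksucc k hk).symm (-a) := by
      have hx : xr k (ksucc k hk) (k_ne_ksucc k hk) (-a) * xr k (ksucc k hk) (k_ne_ksucc k hk) a = 1 := by
        apply Subtype.ext
        rw [Matrix.SpecialLinearGroup.coe_mul, xr_coe, xr_coe,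
          Matrix.transvection_mul_transvection_same _ _ (k_ne_ksucc k hk), neg_add_cancel,
          Matrix.transvection_zero]
        rfl
      have hu2 : (u : Matrix.SpecialLinearGroup (Fin n) F) =
          u' * xr k (ksucc k hk) (k_ne_ksucc k hk) a := by
        rw [hu', mul_assoc, hx, mul_one]
      rw [← sk_conj_xr k hk a, ← hs]
      conv_lhs => rw [hu2]
      group
    rw [hdec, f0_UT_mul ρ (sk_conj_UT k hk hu'U hu'0)]
    by_cases ha0 : a = 0
    · rw [if_pos ha0, ha0, neg_zero]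
      have : xr (ksucc k hk) k (k_ne_ksucc k hk).symm (0 : F) = 1 := by
        apply Subtype.ext
        rw [xr_coe, Matrix.transvection_zero]
        rfl
      rw [this, f0_one ρ hvU hi₀]
    · rw [if_neg ha0]
      have hb : -a ≠ 0 := neg_ne_zero.mpr ha0
      -- the monomial element
      have hid := transvection_neg_eq k hk hb
      have hdetN : (mono (Equiv.swap k (ksucc k hk)) (nbd k hk (-a))).det = 1 := by
        have := congrArg Matrix.det hid
        rw [Matrix.det_mul, Matrix.det_mul, Matrix.det_transvection_of_ne _ _ (k_ne_ksucc k hk),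
          Matrix.det_transvection_of_ne _ _ (k_ne_ksucc k hk).symm, one_mul, mul_one] at this
        exact this.symm
      set N : Matrix.SpecialLinearGroup (Fin n) F := ⟨_, hdetN⟩ with hN
      have hxU : xr k (ksucc k hk) (k_ne_ksucc k hk) (-a)⁻¹ ∈ UT n F :=
        xr_mem_UT k (ksucc k hk) (k_lt_ksucc k hk) _
      have hfac : xr (ksucc k hk) k (k_ne_ksucc k hk).symm (-a) =
          xr k (ksucc k hk) (k_ne_ksucc k hk) (-a)⁻¹ * (N * xr k (ksucc k hk) (k_ne_ksucc k hk) (-a)⁻¹) := by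
        apply Subtype.ext
        exact hid
      rw [hfac, f0_UT_mul ρ hxU, f0_mul_UT ρ hvU hxU]
      -- `N = s * t`
      have htT : s⁻¹ * N ∈ TT n F := by
        rw [mem_TT]
        intro i j hij
        rw [Matrix.SpecialLinearGroup.coe_mul, exists_inv_mono s _ _ (sk_coe k hk),
          show (N : Matrix (Fin n) (Fin n) F) = mono (Equiv.swap k (ksucc k hk)) (nbd k hk (-a))
            from rfl, mono_mul, mono_apply, if_neg]
        simpa using hij
      have hNs : N = s * (s⁻¹ * N) := by group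
      rw [hNs, f0_mul_TT ρ θ hθ htT, h0, mul_zero]
  -- the contradiction
  rw [Finset.sum_congr rfl (fun u _ => hval u), Finset.sum_boole] at hsum
  have hpos : 0 < (univ.filter fun u : UT n F =>
      ((u : Matrix.SpecialLinearGroup (Fin n) F) : Matrix (Fin n) (Fin n) F) k (ksucc k hk) = 0).card := by
    apply Finset.card_pos.mpr
    refine ⟨1, ?_⟩
    rw [Finset.mem_filter]
    refine ⟨mem_univ _, ?_⟩
    change ((1 : Matrix.SpecialLinearGroup (Fin n) F) : Matrix (Fin n) (Fin n) F) k (ksucc k hk) = 0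
    rw [Matrix.SpecialLinearGroup.coe_one, Matrix.one_apply_ne (k_ne_ksucc k hk)]
  have : ((univ.filter fun u : UT n F =>
      ((u : Matrix.SpecialLinearGroup (Fin n) F) : Matrix (Fin n) (Fin n) F) k (ksucc k hk) = 0).card : ℂ) ≠ 0 := by
    exact_mod_cast hpos.ne'
  exact this hsum

/-- the eigencharacter is invariant under simple reflections -/
theorem theta_sk_conj (hv : v ≠ 0) (hvU : v ∈ invU ρ) (hline : finrank ℂ (invU ρ) = 1)
    (θ : Matrix.SpecialLinearGroup (Fin n) F → ℂ) (hθ : ∀ t ∈ TT n F, ρ t v = θ t • v)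
    (k : Fin n) (hk : k.val + 1 < n) {t : Matrix.SpecialLinearGroup (Fin n) F} (ht : t ∈ TT n F) :
    θ ((sk k hk)⁻¹ * t * sk k hk) = θ t := by
  obtain ⟨i₀, hi₀⟩ : ∃ i₀, v i₀ ≠ 0 := by
    by_contra hcon
    push_neg at hcon
    exact hv (funext hcon)
  have hne := f0_sk_ne_zero ρ hv hvU hline θ hθ hi₀ k hk
  have h1 := f0_TT_mul ρ hv hvU hline θ hθ hi₀ ht (sk k hk)
  have h2 := f0_mul_TT ρ θ hθ (sk_conj_TT k hk ht) (i₀ := i₀) (sk k hk)
  have e : sk k hk * ((sk k hk)⁻¹ * t * sk k hk) = t * sk k hk := by group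
  rw [e, h1] at h2
  exact (mul_right_cancel₀ hne h2).symm

end Line

end Cfsg.Agent.Lib.Helper47.DefChar
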