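import Mathlib
import Cfsg.Agent.Lib.Helper47.DefChar.Core3

set_option autoImplicit false
set_option linter.unusedSectionVars false

/-!
# Irreducible characters of `SL_n(q)` vanishing on `p`-singular elements, part 4

The torus acts trivially on the `U`-fixed line (`n ≥ 3`); invariants of parabolic subgroups.
-/

namespace Cfsg.Agent.Lib.Helper47.DefChar

open Finset Module
open Cfsg.Agent.Lib.Helper07 (UT mem_UT)

variable {n : ℕ} {F : Type*} [Field F] [Fintype F]

/-- diagonal elements of `SL_n` -/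
def dg (e : Fin n → F) (he : ∏ i, e i = 1) : Matrix.SpecialLinearGroup (Fin n) F :=
  ⟨Matrix.diagonal e, by rw [Matrix.det_diagonal, he]⟩

theorem dg_coe (e : Fin n → F) (he : ∏ i, e i = 1) :
    ((dg e he : Matrix.SpecialLinearGroup (Fin n) F) : Matrix (Fin n) (Fin n) F) =
      Matrix.diagonal e := rfl

theorem dg_mem (e : Fin n → F) (he : ∏ i, e i = 1) : dg e he ∈ TT n F := by
  intro i j hij
  rw [dg_coe, Matrix.diagonal_apply_ne _ hij]

theorem TT_ext {t t' : Matrix.SpecialLinearGroup (Fin n) F} (ht : t ∈ TT n F) (ht' : t' ∈ TT n F)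
    (h : ∀ i, (t : Matrix (Fin n) (Fin n) F) i i = (t' : Matrix (Fin n) (Fin n) F) i i) :
    t = t' := by
  apply Subtype.ext
  ext i j
  by_cases hij : i = j
  · subst hij; exact h i
  · rw [ht i j hij, ht' i j hij]

theorem prod_diag_of_mem_TT {t : Matrix.SpecialLinearGroup (Fin n) F} (ht : t ∈ TT n F) :
    ∏ i, (t : Matrix (Fin n) (Fin n) F) i i = 1 := by
  have h := t.2
  rw [TT_coe_eq_mono ht, det_mono] at h
  simpa using h

theorem eq_dg_of_mem_TT {t : Matrix.SpecialLinearGroup (Fin n) F} (ht : t ∈ TT n F) :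
    t = dg (fun i => (t : Matrix (Fin n) (Fin n) F) i i) (prod_diag_of_mem_TT ht) := by
  apply TT_ext ht (dg_mem _ _)
  intro i
  rw [dg_coe, Matrix.diagonal_apply_eq]

theorem dg_mul (e e' : Fin n → F) (he : ∏ i, e i = 1) (he' : ∏ i, e' i = 1)
    (hee' : ∏ i, (e * e') i = 1) : dg (e * e') hee' = dg e he * dg e' he' := by
  apply Subtype.ext
  rw [Matrix.SpecialLinearGroup.coe_mul, dg_coe, dg_coe, dg_coe, Matrix.diagonal_mul_diagonal]
  rfl

section Rep

variable {d : ℕ} (ρ : Representation ℂ (Matrix.SpecialLinearGroup (Fin n) F) (Fin d → ℂ))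

/-- **the torus acts trivially on the `U`-fixed line** -/
theorem theta_eq_one (hn : 3 ≤ n) {v : Fin d → ℂ} (hv : v ≠ 0) (hvU : v ∈ invU ρ)
    (hline : finrank ℂ (invU ρ) = 1)
    (θ : Matrix.SpecialLinearGroup (Fin n) F → ℂ) (hθ : ∀ t ∈ TT n F, ρ t v = θ t • v) :
    ∀ t ∈ TT n F, ρ t v = v := by
  classical
  let _ : Fintype (UT n F) := Fintype.ofFinite _
  have hθmul : ∀ t ∈ TT n F, ∀ t' ∈ TT n F, θ (t * t') = θ t * θ t' := by
    intro t ht t' ht'
    have h1 := hθ (t * t') ((TT n F).mul_mem ht ht')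
    rw [map_mul, Module.End.mul_apply, hθ t' ht', map_smul, hθ t ht, smul_smul] at h1
    have h2 : (θ t' * θ t - θ (t * t')) • v = 0 := by rw [sub_smul, h1, sub_self]
    rcases smul_eq_zero.mp h2 with h | h
    · rw [← sub_eq_zero.mp h, mul_comm]
    · exact absurd h hv
  have hθone : θ 1 = 1 := by
    have h1 := hθ 1 (TT n F).one_mem
    rw [map_one, Module.End.one_apply] at h1
    have h2 : (1 - θ 1) • v = 0 := by rw [sub_smul, one_smul, ← h1, sub_self]
    rcases smul_eq_zero.mp h2 with h | h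
    · exact (sub_eq_zero.mp h).symm
    · exact absurd h hv
  have hθne : ∀ t ∈ TT n F, θ t ≠ 0 := by
    intro t ht h0
    have := hθmul t ht t⁻¹ ((TT n F).inv_mem ht)
    rw [mul_inv_cancel, hθone, h0, zero_mul] at this
    exact one_ne_zero this
  set Θ : (Fin n → F) → ℂ := fun e => if he : ∏ i, e i = 1 then θ (dg e he) else 0 with hΘ
  have hΘ1 : ∀ e (he : ∏ i, e i = 1), Θ e = θ (dg e he) := by
    intro e he
    rw [hΘ]
    simp only
    rw [dif_pos he]
  have key : ∀ e : Fin n → F, ∏ i, e i = 1 → Θ e = 1 := by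
    apply theta_trivial hn Θ
    · intro e e' he he'
      have hee' : ∏ i, (e * e') i = 1 := by
        simp only [Pi.mul_apply]
        rw [Finset.prod_mul_distrib, he, he', one_mul]
      rw [hΘ1 _ hee', hΘ1 _ he, hΘ1 _ he', dg_mul e e' he he' hee',
        hθmul _ (dg_mem e he) _ (dg_mem e' he')]
    · intro e he
      rw [hΘ1 _ he]
      exact hθne _ (dg_mem e he)
    · intro k k' hkk' e he
      have hk : k.val + 1 < n := by rw [← hkk']; exact k'.2
      have hk' : k' = ksucc k hk := Fin.ext hkk'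
      subst hk'
      have he' : ∏ i, (e ∘ Equiv.swap k (ksucc k hk)) i = 1 := by
        rw [← he]
        exact Equiv.prod_comp (Equiv.swap k (ksucc k hk)) e
      rw [hΘ1 _ he', hΘ1 _ he, ← theta_sk_conj ρ hv hvU hline θ hθ k hk (dg_mem e he)]
      congr 1
      apply TT_ext (dg_mem _ _) (sk_conj_TT k hk (dg_mem e he))
      intro i
      rw [sk_conj_TT_diag, dg_coe, dg_coe, Matrix.diagonal_apply_eq, Matrix.diagonal_apply_eq]
      rfl
  intro t ht
  rw [hθ t ht, eq_dg_of_mem_TT ht, ← hΘ1, key _ (prod_diag_of_mem_TT ht), one_smul]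

end Rep

end Cfsg.Agent.Lib.Helper47.DefChar
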