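import Mathlib
import Cfsg.Agent.Lib.Helper47.DefChar.Core4
import Cfsg.Agent.Lib.Helper47.CompLabel
import Cfsg.Agent.Lib.Helper47.UnipotentSub

set_option autoImplicit false
set_option linter.unusedSectionVars false

/-!
# Irreducible characters of `SL_n(q)` vanishing on `p`-singular elements, part 5

Invariants of the parabolic subgroups.
-/

namespace Cfsg.Agent.Lib.Helper47.DefChar

open Finset Module
open scoped MatrixGroups
open Cfsg.Agent.Lib.Helper07 (UT mem_UT)

variable {n : ℕ} {F : Type*} [Field F] [Fintype F]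

/-- the parabolic subgroups of `SL_n` -/
def parSL (n : ℕ) (F : Type*) [Field F] (μ : Fin n → ℕ) :
    Subgroup (Matrix.SpecialLinearGroup (Fin n) F) :=
  (Cfsg.parabolicGL n F μ).comap Matrix.SpecialLinearGroup.toGL

theorem mem_parSL {μ : Fin n → ℕ} {s : Matrix.SpecialLinearGroup (Fin n) F} :
    s ∈ parSL n F μ ↔ (s : Matrix (Fin n) (Fin n) F).BlockTriangular (Cfsg.compLabel μ) := Iff.rfl

theorem blockTriangular_of_upper {μ : Fin n → ℕ} {M : Matrix (Fin n) (Fin n) F}
    (hM : M.BlockTriangular id) : M.BlockTriangular (Cfsg.compLabel μ) := by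
  intro i j hij
  apply hM
  by_contra hcon
  have hle : i ≤ j := not_lt.mp hcon
  exact absurd (compLabel_monotone μ hle) (not_le.mpr hij)

theorem UT_le_parSL (μ : Fin n → ℕ) : UT n F ≤ parSL n F μ := by
  intro u hu
  rw [mem_parSL]
  exact blockTriangular_of_upper (UT_le_upper hu)

theorem TT_le_parSL (μ : Fin n → ℕ) : TT n F ≤ parSL n F μ := by
  intro t ht
  rw [mem_parSL]
  apply blockTriangular_of_upper
  intro i j hij
  exact ht i j (ne_of_gt hij)

/-- a negative root element inside a block lies in the parabolic subgroup -/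
theorem xr_mem_parSL (μ : Fin n → ℕ) (k : Fin n) (hk : k.val + 1 < n)
    (hlab : Cfsg.compLabel μ k = Cfsg.compLabel μ (ksucc k hk)) (c : F) :
    xr (ksucc k hk) k (k_ne_ksucc k hk).symm c ∈ parSL n F μ := by
  rw [mem_parSL]
  intro i j hij
  rw [xr_coe, transvection_apply, if_neg, if_neg, add_zero]
  · rintro ⟨rfl, rfl⟩
    rw [hlab] at hij
    exact lt_irrefl _ hij
  · rintro rfl
    exact lt_irrefl _ hij

/-- a composition with a part of size at least two has two adjacent positions in one block -/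
theorem exists_adjacent_of_part (μ : Fin n → ℕ) (hμ : ∑ i, μ i = n) (j : Fin n) (hj : 2 ≤ μ j) :
    ∃ (k : Fin n) (hk : k.val + 1 < n), Cfsg.compLabel μ k = Cfsg.compLabel μ (ksucc k hk) := by
  have hcard := card_compLabel_eq μ hμ j
  have h2 : 1 < (univ.filter fun i : Fin n => Cfsg.compLabel μ i = j).card := by omega
  obtain ⟨a, ha, b, hb, hab⟩ := Finset.one_lt_card.mp h2
  rw [Finset.mem_filter] at ha hb
  wlog hlt : a < b generalizing a b
  · exact this b hb a ha hab.symm (lt_of_le_of_ne (not_lt.mp hlt) hab.symm)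
  have hk : a.val + 1 < n := by
    have := b.2
    rw [Fin.lt_def] at hlt
    omega
  refine ⟨a, hk, ?_⟩
  have h1 : Cfsg.compLabel μ a ≤ Cfsg.compLabel μ (ksucc a hk) :=
    compLabel_monotone μ (le_of_lt (k_lt_ksucc a hk))
  have h3 : Cfsg.compLabel μ (ksucc a hk) ≤ Cfsg.compLabel μ b := by
    apply compLabel_monotone μ
    rw [Fin.le_def]
    rw [Fin.lt_def] at hlt
    simp only [ksucc]
    omega
  rw [ha.2] at h1 ⊢
  rw [hb.2] at h3
  omega

section Rep

variable (p : ℕ) [Fact p.Prime] [CharP F p]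
variable {d : ℕ} (ρ : Representation ℂ (Matrix.SpecialLinearGroup (Fin n) F) (Fin d → ℂ))

/-- **vectors fixed by a parabolic subgroup with a block of size at least two vanish** -/
theorem eq_zero_of_parSL_fixed (hn : 0 < n) (hirr : ρ.IsIrreducible)
    (hvan : ∀ g : Matrix.SpecialLinearGroup (Fin n) F, p ∣ orderOf g → ρ.character g = 0)
    (μ : Fin n → ℕ) (k : Fin n) (hk : k.val + 1 < n)
    (hlab : Cfsg.compLabel μ k = Cfsg.compLabel μ (ksucc k hk))
    (v₁ : Fin d → ℂ) (hfix : ∀ s ∈ parSL n F μ, ρ s v₁ = v₁) : v₁ = 0 := by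
  by_contra hv₁
  obtain ⟨ψ₀, hψ₀⟩ := (AddChar.exists_apply_ne_zero (α := F) (a := 1)).mpr one_ne_zero
  obtain ⟨w₀, d₀, hw₀⟩ := exists_mono_SL (F := F) hn Fin.revPerm
  have hd₀ : ∀ c, d₀ c ≠ 0 := by
    apply mono_ne_zero_of_det Fin.revPerm d₀
    rw [← hw₀, w₀.2]
    exact one_ne_zero
  -- a nonzero Whittaker functional
  have hline := finrank_invU_eq_one ρ p hn hirr hvan
  have hUpos : 0 < Nat.card (UT n F) := Nat.card_pos
  have h1 := finrank_invU_mul p ρ hvan
  have h2 := finrank_whIM_mul p ρ ψ₀ hvan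
  have h1' : finrank ℂ (invU ρ) * Nat.card (UT n F) = d := by exact_mod_cast h1
  have h2' : finrank ℂ (WhIM ρ ψ₀) * Nat.card (UT n F) = d := by exact_mod_cast h2
  have heq : finrank ℂ (WhIM ρ ψ₀) = 1 := by
    have : finrank ℂ (WhIM ρ ψ₀) * Nat.card (UT n F) =
        finrank ℂ (invU ρ) * Nat.card (UT n F) := by rw [h1', h2']
    rw [Nat.eq_of_mul_eq_mul_right hUpos this, hline]
  have hnt : Nontrivial (WhIM ρ ψ₀) := Module.finrank_pos_iff.mp (by rw [heq]; exact one_pos)
  obtain ⟨Λ, hΛ⟩ := exists_ne (0 : WhIM ρ ψ₀)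
  -- the matrix coefficient vanishes at `w₀`
  set k' := ksucc k hk with hk'
  set a : Fin n := Fin.revPerm k' with ha
  set a' : Fin n := Fin.revPerm k with ha'
  have haa' : a'.val = a.val + 1 := by
    simp only [ha, ha', Fin.revPerm_apply, Fin.val_rev, hk', ksucc]
    omega
  have hane : a ≠ a' := fun e => by have := congrArg Fin.val e; omega
  have halt : a < a' := by rw [Fin.lt_def]; omega
  have hrev1 : (Fin.revPerm : Equiv.Perm (Fin n))⁻¹ a = k' := by
    rw [Equiv.Perm.inv_def, Equiv.symm_apply_eq]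
  have hrev2 : (Fin.revPerm : Equiv.Perm (Fin n))⁻¹ a' = k := by
    rw [Equiv.Perm.inv_def, Equiv.symm_apply_eq]
  have hcomm : xr a a' hane 1 * w₀ =
      w₀ * xr k' k (k_ne_ksucc k hk).symm (1 * d₀ k / d₀ k') := by
    apply Subtype.ext
    rw [Matrix.SpecialLinearGroup.coe_mul, Matrix.SpecialLinearGroup.coe_mul, xr_coe, xr_coe, hw₀,
      transvection_mul_mono _ _ hd₀, hrev1, hrev2]
  have hw0 : Λ (ρ w₀ v₁) 0 = 0 := by
    have e1 := whIM_apply ρ ψ₀ Λ (xr_mem_UT a a' halt 1) (ρ w₀ v₁)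
    rw [← Module.End.mul_apply, ← map_mul, hcomm, map_mul, Module.End.mul_apply,
      hfix _ (xr_mem_parSL μ k hk hlab _), xr_coe, supSum_transvection a a' haa'] at e1
    have e2 : (ψ₀ 1 - 1) * Λ (ρ w₀ v₁) 0 = 0 := by rw [sub_mul, one_mul, ← e1, sub_self]
    rcases mul_eq_zero.mp e2 with h | h
    · exact absurd (sub_eq_zero.mp h) hψ₀
    · exact h
  have hf : ∀ g, Λ (ρ g v₁) 0 = 0 := by
    apply whittaker_unique (fun c => ψ₀ c) ⟨1, hψ₀⟩ (fun g => Λ (ρ g v₁) 0) ?_ ?_ ?_ w₀ d₀ hw₀ hw0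
    · intro u hu g
      rw [map_mul, Module.End.mul_apply, whIM_apply ρ ψ₀ Λ hu]
    · intro u hu g
      rw [map_mul, Module.End.mul_apply, hfix u (UT_le_parSL μ hu)]
    · intro t ht g hg
      rw [map_mul, Module.End.mul_apply, hfix t (TT_le_parSL μ (mem_TT.mpr ht))]
      exact hg
  apply hΛ
  have hlin : Λ.toLinearMap = 0 := by
    apply eq_zero_of_orbit ρ hirr hv₁
    intro g
    funext i
    have hi : i = 0 := Subsingleton.elim _ _
    rw [hi]
    exact hf g
  apply Representation.IntertwiningMap.ext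
  rw [hlin]
  rfl

end Rep

end Cfsg.Agent.Lib.Helper47.DefChar
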