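import Mathlib
import Cfsg.Agent.Lib.Helper47.DefChar.Core5
import Cfsg.Agent.Lib.Helper47.SteinbergSL
import Cfsg.Agent.Lib.Helper47.SteinbergValues

set_option autoImplicit false

/-!
# Defining characteristic, part 9: a character vanishing on `p`-singular elements is Steinberg

The inner product of an irreducible character `χ` of `SL_n(q)`, `n ≥ 3`, vanishing on the
`p`-singular elements, with the Steinberg character is computed through the alternating sum of
permutation characters on parabolic cosets: only the Borel term survives, and it contributes `1`.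
-/

namespace Cfsg.Agent.Lib.Helper47.DefChar

open Finset Module
open scoped MatrixGroups ComplexConjugate
open Cfsg.Agent.Lib.Helper07 (UT mem_UT)

section Perm

variable {G S : Type*} [Group G] [Group S]

/-- the permutation character as a sum of indicators -/
theorem fpc_eq_sum (P : Subgroup G) [Fintype (G ⧸ P)] [DecidableEq (G ⧸ P)] (g : G) :
    Cfsg.fixedPointCharacter P g = ∑ x : G ⧸ P, if g • x = x then (1 : ℂ) else 0 := by
  unfold Cfsg.fixedPointCharacter
  rw [Finset.sum_boole, Nat.card_eq_fintype_card]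
  congr 1
  apply Fintype.card_of_subtype
  intro x
  rw [Finset.mem_filter]
  simp only [Finset.mem_univ, true_and]
  rfl

/-- **Frobenius reciprocity for a transitive subgroup action on cosets** -/
theorem sum_mul_fpc [Fintype S] (ι : S →* G) (P : Subgroup G) [Finite (G ⧸ P)]
    [Fintype (P.comap ι)]
    (χ : S → ℂ) (hχ : ∀ s t : S, χ (t * s * t⁻¹) = χ s)
    (htrans : ∀ x : G ⧸ P, ∃ s : S, ι s • ((1 : G) : G ⧸ P) = x) :
    ∑ s : S, χ s * Cfsg.fixedPointCharacter P (ι s) =
      (Nat.card (G ⧸ P) : ℂ) * ∑ h : P.comap ι, χ h := by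
  classical
  have : Fintype (G ⧸ P) := Fintype.ofFinite _
  have hx : ∀ x : G ⧸ P, ∑ s : S, χ s * (if ι s • x = x then (1 : ℂ) else 0) =
      ∑ h : P.comap ι, χ h := by
    intro x
    obtain ⟨s₀, hs₀⟩ := htrans x
    have hsub : ∑ h : P.comap ι, χ h = ∑ s : S, if s ∈ P.comap ι then χ s else 0 := by
      rw [← Finset.sum_filter]
      exact (Finset.sum_subtype (Finset.univ.filter fun s : S => s ∈ P.comap ι)
        (fun s => by simp) χ).symm
    rw [hsub]
    apply Fintype.sum_equiv (MulAut.conj s₀⁻¹).toEquiv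
    intro s
    have hc : (MulAut.conj s₀⁻¹).toEquiv s = s₀⁻¹ * s * s₀ := by
      simp
    rw [hc]
    have hχ' : χ (s₀⁻¹ * s * s₀) = χ s := by
      have := hχ s s₀⁻¹
      rwa [inv_inv] at this
    have hiff : ι s • x = x ↔ s₀⁻¹ * s * s₀ ∈ P.comap ι := by
      rw [Subgroup.mem_comap, ← hs₀]
      have h1 : ι s • ι s₀ • ((1 : G) : G ⧸ P) = ((ι s * ι s₀ : G) : G ⧸ P) := by
        change (((ι s * (ι s₀ * 1) : G)) : G ⧸ P) = _
        rw [mul_one]
      have h2 : ι s₀ • ((1 : G) : G ⧸ P) = ((ι s₀ : G) : G ⧸ P) := by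
        change (((ι s₀ * 1 : G)) : G ⧸ P) = _
        rw [mul_one]
      rw [h1, h2, QuotientGroup.eq, map_mul, map_mul, map_inv]
      have h3 : (ι s * ι s₀)⁻¹ * ι s₀ = ((ι s₀)⁻¹ * ι s * ι s₀)⁻¹ := by group
      rw [h3, inv_mem_iff]
    by_cases h : ι s • x = x
    · rw [if_pos h, if_pos (hiff.mp h), hχ', mul_one]
    · rw [if_neg h, if_neg (fun h' => h (hiff.mpr h')), mul_zero]
  calc ∑ s : S, χ s * Cfsg.fixedPointCharacter P (ι s)
      = ∑ s : S, ∑ x : G ⧸ P, χ s * (if ι s • x = x then (1 : ℂ) else 0) := by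
        apply Finset.sum_congr rfl
        intro s _
        rw [fpc_eq_sum, Finset.mul_sum]
    _ = ∑ x : G ⧸ P, ∑ s : S, χ s * (if ι s • x = x then (1 : ℂ) else 0) := Finset.sum_comm
    _ = ∑ _x : G ⧸ P, ∑ h : P.comap ι, χ h := Finset.sum_congr rfl fun x _ => hx x
    _ = (Nat.card (G ⧸ P) : ℂ) * ∑ h : P.comap ι, χ h := by
        rw [Finset.sum_const, Finset.card_univ, nsmul_eq_mul, Nat.card_eq_fintype_card]

/-- orbit-stabiliser for a transitive subgroup action on cosets -/
theorem card_quot_mul_card_comap [Finite S] (ι : S →* G) (P : Subgroup G)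
    (htrans : ∀ x : G ⧸ P, ∃ s : S, ι s • ((1 : G) : G ⧸ P) = x) :
    Nat.card (G ⧸ P) * Nat.card (P.comap ι) = Nat.card S := by
  classical
  let _ : MulAction S (G ⧸ P) := MulAction.compHom (G ⧸ P) ι
  have horb : MulAction.orbit S (((1 : G) : G ⧸ P)) = Set.univ := by
    ext x
    simp only [Set.mem_univ, iff_true]
    obtain ⟨s, hs⟩ := htrans x
    exact ⟨s, hs⟩
  have hstab : MulAction.stabilizer S (((1 : G) : G ⧸ P)) = P.comap ι := by
    ext s
    rw [MulAction.mem_stabilizer_iff, Subgroup.mem_comap]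
    change (((ι s * 1 : G)) : G ⧸ P) = ((1 : G) : G ⧸ P) ↔ _
    rw [mul_one, QuotientGroup.eq, mul_one, inv_mem_iff]
  have h1 := MulAction.index_stabilizer S (((1 : G) : G ⧸ P))
  rw [horb, Set.ncard_univ, hstab] at h1
  rw [← h1]
  exact Subgroup.index_mul_card _

end Perm

section Borel

variable {n : ℕ} {F : Type*} [Field F] [Fintype F]

theorem compLabel_one (i : Fin n) : Cfsg.compLabel (fun _ : Fin n => 1) i = i.val := by
  unfold Cfsg.compLabel
  have h1 : ∀ j : Fin n, (∑ k ∈ Finset.univ.filter (fun k : Fin n => k ≤ j), 1) = j.val + 1 := by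
    intro j
    rw [Finset.sum_const, smul_eq_mul, mul_one]
    have : (Finset.univ.filter (fun k : Fin n => k ≤ j)) = Finset.Iic j := by
      ext k; simp
    rw [this, Fin.card_Iic]
  simp_rw [h1]
  have h2 : (Finset.univ.filter fun j : Fin n => j.val + 1 ≤ i.val) = Finset.Iio i := by
    ext j
    rw [Finset.mem_filter, Finset.mem_Iio, Fin.lt_def]
    simp
  rw [h2, Fin.card_Iio]

theorem mem_parSL_one {s : Matrix.SpecialLinearGroup (Fin n) F} :
    s ∈ parSL n F (fun _ => 1) ↔ (s : Matrix (Fin n) (Fin n) F).BlockTriangular id := by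
  rw [mem_parSL]
  constructor
  · intro h i j hij
    apply h
    rw [compLabel_one, compLabel_one]
    exact hij
  · intro h
    exact blockTriangular_of_upper h

theorem exists_TT_UT_of_upper {s : Matrix.SpecialLinearGroup (Fin n) F}
    (hs : (s : Matrix (Fin n) (Fin n) F).BlockTriangular id) :
    ∃ t ∈ TT n F, ∃ u ∈ UT n F, s = t * u := by
  obtain ⟨u, e, hu, hu1, hc⟩ := upper_decomp_right s.1 hs (by rw [s.2]; exact one_ne_zero)
  have hdetu : u.det = 1 := det_unitriangular u hu hu1
  have hdete : (Matrix.diagonal e).det = 1 := by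
    have := congrArg Matrix.det hc
    rw [Matrix.det_mul, hdetu, mul_one, s.2] at this
    exact this.symm
  refine ⟨(⟨Matrix.diagonal e, hdete⟩ : Matrix.SpecialLinearGroup (Fin n) F), ?_,
    (⟨u, hdetu⟩ : Matrix.SpecialLinearGroup (Fin n) F), ?_, ?_⟩
  · intro i j hij
    exact Matrix.diagonal_apply_ne _ hij
  · exact mem_UT.mpr ⟨fun i j hji => hu hji, hu1⟩
  · apply Subtype.ext
    exact hc

end Borel

section Rep

variable {n : ℕ} {F : Type*} [Field F] [Fintype F]
variable (p : ℕ) [Fact p.Prime] [CharP F p]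
variable {d : ℕ} (ρ : Representation ℂ (Matrix.SpecialLinearGroup (Fin n) F) (Fin d → ℂ))

/-- the restriction to a parabolic subgroup -/
noncomputable abbrev rhoP (μ : Fin n → ℕ) : Representation ℂ (parSL n F μ) (Fin d → ℂ) :=
  MonoidHom.comp ρ (parSL n F μ).subtype

/-- the Borel subgroup fixes exactly a line -/
theorem finrank_inv_borel (hn : 3 ≤ n) (hirr : ρ.IsIrreducible)
    (hvan : ∀ g : Matrix.SpecialLinearGroup (Fin n) F, p ∣ orderOf g → ρ.character g = 0) :
    finrank ℂ (Representation.invariants (rhoP ρ (fun _ => 1))) = 1 := by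
  have hline := finrank_invU_eq_one ρ p (by omega) hirr hvan
  obtain ⟨v, θ, hv, hvU, hθ⟩ := exists_eigenvector ρ (by rw [hline]; exact one_pos)
  have hfixT := theta_eq_one ρ hn hv hvU hline θ hθ
  have hvB : v ∈ Representation.invariants (rhoP ρ (fun _ => 1)) := by
    rw [Representation.mem_invariants]
    intro s
    obtain ⟨t, ht, u, hu, hs⟩ := exists_TT_UT_of_upper (mem_parSL_one.mp s.2)
    change ρ s.1 v = v
    rw [hs, map_mul, Module.End.mul_apply, (mem_invU ρ v).mp hvU u hu, hfixT t ht]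
  have hle : Representation.invariants (rhoP ρ (fun _ => 1)) ≤ invU ρ := by
    intro x hx
    rw [mem_invU]
    intro u hu
    exact (Representation.mem_invariants _ _).mp hx ⟨u, UT_le_parSL _ hu⟩
  apply le_antisymm
  · exact (Submodule.finrank_mono hle).trans hline.le
  · rw [Nat.one_le_iff_ne_zero, Ne, Submodule.finrank_eq_zero]
    intro h
    rw [h] at hvB
    exact hv ((Submodule.mem_bot ℂ).mp hvB)

/-- a parabolic subgroup with a block of size at least two fixes nothing -/
theorem finrank_inv_par (hn : 0 < n) (hirr : ρ.IsIrreducible)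
    (hvan : ∀ g : Matrix.SpecialLinearGroup (Fin n) F, p ∣ orderOf g → ρ.character g = 0)
    (μ : Fin n → ℕ) (hμ : ∑ i, μ i = n) (j : Fin n) (hj : 2 ≤ μ j) :
    finrank ℂ (Representation.invariants (rhoP ρ μ)) = 0 := by
  obtain ⟨k, hk, hlab⟩ := exists_adjacent_of_part μ hμ j hj
  rw [Submodule.finrank_eq_zero, eq_bot_iff]
  intro x hx
  rw [Submodule.mem_bot]
  apply eq_zero_of_parSL_fixed p ρ hn hirr hvan μ k hk hlab x
  intro s hs
  exact (Representation.mem_invariants _ _).mp hx ⟨s, hs⟩

theorem sum_char_par (μ : Fin n → ℕ) [Fintype (parSL n F μ)] :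
    ∑ h : parSL n F μ, ρ.character h =
      (Nat.card (parSL n F μ) : ℂ) * finrank ℂ (Representation.invariants (rhoP ρ μ)) := by
  have hne : (Nat.card (parSL n F μ) : ℂ) ≠ 0 := by exact_mod_cast Nat.card_pos.ne'
  have : Invertible (Nat.card (parSL n F μ) : ℂ) := invertibleOfNonzero hne
  have h := Representation.card_inv_mul_sum_char_eq_finrank (rhoP ρ μ)
  rw [← h]
  have hsum : ∑ g : parSL n F μ, (rhoP ρ μ).character g = ∑ h : parSL n F μ, ρ.character h := by
    apply Finset.sum_congr rfl
    intro g _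
    rfl
  rw [hsum]
  field_simp

theorem sl_trans_par (hn : 0 < n) (μ : Fin n → ℕ)
    (x : GL (Fin n) F ⧸ Cfsg.parabolicGL n F μ) :
    ∃ s : Matrix.SpecialLinearGroup (Fin n) F,
      Matrix.SpecialLinearGroup.toGL s • ((1 : GL (Fin n) F) : GL (Fin n) F ⧸ Cfsg.parabolicGL n F μ)
        = x := by
  obtain ⟨g, rfl⟩ := QuotientGroup.mk_surjective x
  obtain ⟨s, hs⟩ := sl_orbit_parabolic hn μ μ
    (((1 : GL (Fin n) F) : GL (Fin n) F ⧸ Cfsg.parabolicGL n F μ),
      ((1 : GL (Fin n) F) : GL (Fin n) F ⧸ Cfsg.parabolicGL n F μ)) g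
  refine ⟨s, ?_⟩
  have h1 := congrArg Prod.fst hs
  rw [Prod.smul_fst, Prod.smul_fst] at h1
  rw [h1]
  change (((g * 1 : GL (Fin n) F)) : GL (Fin n) F ⧸ Cfsg.parabolicGL n F μ) = _
  rw [mul_one]

theorem sum_char_mul_fpc_par [Fintype (Matrix.SpecialLinearGroup (Fin n) F)] (hn : 0 < n)
    (μ : Fin n → ℕ) :
    ∑ s : Matrix.SpecialLinearGroup (Fin n) F, ρ.character s *
        Cfsg.fixedPointCharacter (Cfsg.parabolicGL n F μ) (Matrix.SpecialLinearGroup.toGL s) =
      (Nat.card (Matrix.SpecialLinearGroup (Fin n) F) : ℂ) *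
        finrank ℂ (Representation.invariants (rhoP ρ μ)) := by
  classical
  have inst : Fintype (parSL n F μ) := Fintype.ofFinite _
  letI inst' : Fintype ((Cfsg.parabolicGL n F μ).comap
    (Matrix.SpecialLinearGroup.toGL (n := Fin n) (R := F))) := inst
  have h1 := sum_mul_fpc (Matrix.SpecialLinearGroup.toGL (n := Fin n) (R := F))
    (Cfsg.parabolicGL n F μ) ρ.character (fun s t => Representation.char_conj ρ s t)
    (sl_trans_par hn μ)
  have h2 := card_quot_mul_card_comap (Matrix.SpecialLinearGroup.toGL (n := Fin n) (R := F))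
    (Cfsg.parabolicGL n F μ) (sl_trans_par hn μ)
  rw [h1]
  have h3 := sum_char_par ρ μ
  change ∑ h : (Cfsg.parabolicGL n F μ).comap Matrix.SpecialLinearGroup.toGL,
    ρ.character h = _ at h3
  rw [h3, ← h2]
  push_cast
  have : Nat.card (parSL n F μ) =
    Nat.card ((Cfsg.parabolicGL n F μ).comap Matrix.SpecialLinearGroup.toGL) := rfl
  rw [this]
  ring

/-- a non-trivial Hessenberg permutation has a part of size at least two -/
theorem exists_part_of_ne_one (κ : Equiv.Perm (Fin n)) (hκ : κ ≠ 1) :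
    ∃ j : Fin n, (κ j).val < j.val := by
  by_contra hcon
  push_neg at hcon
  apply hκ
  have e2 : ∑ i : Fin n, (κ i).val = ∑ i : Fin n, i.val := Equiv.sum_comp κ (fun i => i.val)
  have h3 := (Finset.sum_eq_sum_iff_of_le (s := Finset.univ) (f := fun i : Fin n => i.val)
    (g := fun i : Fin n => (κ i).val) (fun i _ => hcon i)).mp e2.symm
  ext i
  rw [Equiv.Perm.one_apply]
  exact (h3 i (Finset.mem_univ i)).symm

/-- **the inner product with the Steinberg character is one** -/
theorem classInner_steinbergSL_eq_one [Fintype (Matrix.SpecialLinearGroup (Fin n) F)]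
    (hn : 3 ≤ n) (hirr : ρ.IsIrreducible)
    (hvan : ∀ g : Matrix.SpecialLinearGroup (Fin n) F, p ∣ orderOf g → ρ.character g = 0) :
    Cfsg.classInner ρ.character (steinbergSL n F) = 1 := by
  classical
  have hn0 : 0 < n := by omega
  unfold Cfsg.classInner
  have hconj : ∀ s : Matrix.SpecialLinearGroup (Fin n) F,
      conj (steinbergSL n F s) = steinbergSL n F s := fun s => conj_unipotent _ _
  simp_rw [hconj]
  have hne : (Nat.card (Matrix.SpecialLinearGroup (Fin n) F) : ℂ) ≠ 0 := by
    exact_mod_cast Nat.card_pos.ne'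
  suffices hmain : ∑ s : Matrix.SpecialLinearGroup (Fin n) F, ρ.character s * steinbergSL n F s =
      (Nat.card (Matrix.SpecialLinearGroup (Fin n) F) : ℂ) by
    rw [hmain]
    exact inv_mul_cancel₀ hne
  have hexp : ∀ s : Matrix.SpecialLinearGroup (Fin n) F, steinbergSL n F s =
      ∑ κ : Equiv.Perm (Fin n), if ∀ i : Fin n, (κ i).val ≤ 1 + i.val then
        ((Equiv.Perm.sign κ : ℤ) : ℂ) * Cfsg.fixedPointCharacter
          (Cfsg.parabolicGL n F fun i => 1 + i.val - (κ i).val)
          (Matrix.SpecialLinearGroup.toGL s) else 0 := fun s => rfl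
  simp_rw [hexp, Finset.mul_sum]
  rw [Finset.sum_comm]
  have hterm : ∀ κ : Equiv.Perm (Fin n),
      (∑ s : Matrix.SpecialLinearGroup (Fin n) F, ρ.character s *
        (if ∀ i : Fin n, (κ i).val ≤ 1 + i.val then
        ((Equiv.Perm.sign κ : ℤ) : ℂ) * Cfsg.fixedPointCharacter
          (Cfsg.parabolicGL n F fun i => 1 + i.val - (κ i).val)
          (Matrix.SpecialLinearGroup.toGL s) else 0)) =
      if κ = 1 then (Nat.card (Matrix.SpecialLinearGroup (Fin n) F) : ℂ) else 0 := by
    intro κ
    by_cases hH : ∀ i : Fin n, (κ i).val ≤ 1 + i.val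
    · simp_rw [if_pos hH]
      have h1 : ∀ s : Matrix.SpecialLinearGroup (Fin n) F, ρ.character s *
          (((Equiv.Perm.sign κ : ℤ) : ℂ) * Cfsg.fixedPointCharacter
          (Cfsg.parabolicGL n F fun i => 1 + i.val - (κ i).val)
          (Matrix.SpecialLinearGroup.toGL s)) = ((Equiv.Perm.sign κ : ℤ) : ℂ) *
          (ρ.character s * Cfsg.fixedPointCharacter
          (Cfsg.parabolicGL n F fun i => 1 + i.val - (κ i).val)
          (Matrix.SpecialLinearGroup.toGL s)) := fun s => by ring
      simp_rw [h1]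
      rw [← Finset.mul_sum, sum_char_mul_fpc_par ρ hn0]
      by_cases hκ : κ = 1
      · subst hκ
        rw [if_pos rfl]
        have hμ : (fun i : Fin n => 1 + i.val - ((1 : Equiv.Perm (Fin n)) i).val) =
            fun _ => 1 := by
          funext i
          rw [Equiv.Perm.one_apply]
          omega
        rw [hμ, finrank_inv_borel p ρ hn hirr hvan]
        simp
      · rw [if_neg hκ]
        obtain ⟨j, hj⟩ := exists_part_of_ne_one κ hκ
        have hsum : ∑ i : Fin n, (1 + i.val - (κ i).val) = n := by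
          have hH' : IsHess κ := fun i => by have := hH i; omega
          refine Eq.trans ?_ (sum_hessTyp κ hH')
          apply Finset.sum_congr rfl
          intro i _
          unfold hessTyp
          omega
        rw [finrank_inv_par p ρ hn0 hirr hvan _ hsum j (by omega)]
        simp
    · simp_rw [if_neg hH, mul_zero, Finset.sum_const_zero]
      rw [if_neg]
      rintro rfl
      apply hH
      intro i
      rw [Equiv.Perm.one_apply]
      omega
  rw [Finset.sum_congr rfl fun κ _ => hterm κ, Finset.sum_ite_eq' Finset.univ (1 : Equiv.Perm (Fin n)),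
    if_pos (Finset.mem_univ _)]

end Rep

section Final

variable {n : ℕ} {F : Type*} [Field F] [Fintype F]

/-- **for `n ≥ 3`, an irreducible character of `SL_n(q)` vanishing on the `p`-singular elements is
the Steinberg character** -/
theorem eq_steinbergSL_of_vanish (p : ℕ) [Fact p.Prime] [CharP F p] (hn : 3 ≤ n)
    (χ : Matrix.SpecialLinearGroup (Fin n) F → ℂ)
    (hχ : Cfsg.IsIrrCharacter (Matrix.SpecialLinearGroup (Fin n) F) χ)
    (hvan : ∀ g : Matrix.SpecialLinearGroup (Fin n) F, p ∣ orderOf g → χ g = 0) :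
    χ = steinbergSL n F := by
  classical
  have : Fintype (Matrix.SpecialLinearGroup (Fin n) F) := Fintype.ofFinite _
  obtain ⟨d, ρ, hirr, rfl⟩ := hχ
  have h1 := classInner_steinbergSL_eq_one p ρ hn hirr hvan
  by_contra hne
  have h0 := Cfsg.Agent.Lib.Helper05.classInner_irr_ne
    (Cfsg.Agent.Lib.Helper05.isIrrCharacter_of_rep ρ hirr) (steinbergSL_irr (by omega)) hne
  rw [h0] at h1
  exact zero_ne_one h1

end Final

end Cfsg.Agent.Lib.Helper47.DefChar
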