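import Mathlib
import Cfsg.Agent.Lib.Helper47.DefChar.Core6
import Cfsg.Agent.Lib.Helper45.SL2Blocks
import Cfsg.Agent.Lib.Helper82.DefectZero
import Cfsg.Agent.Lib.Helper04.CoprimeDegree

set_option autoImplicit false

/-!
# Defining characteristic, part 10: characters vanishing on `p`-singular elements, all `n ≥ 2`
-/

namespace Cfsg.Agent.Lib.Helper47.DefChar

open Finset Module
open scoped MatrixGroups ComplexConjugate
open Cfsg.Agent.Lib.Helper07 (UT mem_UT)

section

variable {n : ℕ} {F : Type*} [Field F] [Fintype F]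

theorem sum_fin_eq_choose (n : ℕ) : ∑ i : Fin n, (i : ℕ) = n.choose 2 := by
  rw [Fin.sum_univ_eq_sum_range (fun i => i) n, Finset.sum_range_id, Nat.choose_two_right]

/-- the order of a Sylow `p`-subgroup of `SL_n(q)` -/
theorem pow_factorization_card_SL (p : ℕ) [Fact p.Prime] [CharP F p] (hn : 1 ≤ n) :
    p ^ ((Nat.card (Matrix.SpecialLinearGroup (Fin n) F)).factorization p) =
      Fintype.card F ^ (n.choose 2) := by
  obtain ⟨f, hf, hF⟩ := card_eq_pow_of_charP p (F := F)
  have h := Sylow.card_eq_multiplicity (Cfsg.Agent.Lib.Helper07.sylUT p hF hf hn)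
  rw [← h]
  change Nat.card (UT n F) = _
  rw [Cfsg.Agent.Lib.Helper07.card_UT, sum_fin_eq_choose]

theorem eq_steinbergSL_of_vanish_two (p : ℕ) [Fact p.Prime] [CharP F p]
    (χ : Matrix.SpecialLinearGroup (Fin 2) F → ℂ)
    (hχ : Cfsg.IsIrrCharacter (Matrix.SpecialLinearGroup (Fin 2) F) χ)
    (hvan : ∀ g : Matrix.SpecialLinearGroup (Fin 2) F, p ∣ orderOf g → χ g = 0) :
    χ = steinbergSL 2 F := by
  classical
  have : Fintype (Matrix.SpecialLinearGroup (Fin 2) F) := Fintype.ofFinite _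
  have h1 : χ 1 = (Fintype.card F : ℂ) := by
    by_contra hq
    obtain ⟨d, hd, hpd⟩ := Cfsg.Agent.Lib.Helper45.irr_degree_not_dvd p hχ hq
    obtain ⟨f, hf, hF⟩ := card_eq_pow_of_charP p (F := F)
    have hdvd := Cfsg.Agent.Lib.Helper82.card_sylow_dvd_charDegree
      (Cfsg.Agent.Lib.Helper05.IsIrrCharacter.isCharacter hχ) hvan
      (Cfsg.Agent.Lib.Helper07.sylUT p hF hf (by norm_num))
    rw [Cfsg.Agent.Lib.Helper04.charDegree_eq_of_apply_one hd] at hdvd
    have hc : Nat.card (Cfsg.Agent.Lib.Helper07.sylUT (n := 2) p hF hf (by norm_num)) =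
        Fintype.card F := by
      change Nat.card (UT 2 F) = _
      rw [Cfsg.Agent.Lib.Helper07.card_UT, sum_fin_eq_choose]
      norm_num
    rw [hc, hF] at hdvd
    exact hpd (dvd_trans (dvd_pow_self p (by omega)) hdvd)
  have h2 : steinbergSL 2 F 1 = (Fintype.card F : ℂ) := by
    rw [steinbergSL_one]
    norm_num
  rw [Cfsg.Agent.Lib.Helper45.eq_stS_of_degree hχ h1,
    Cfsg.Agent.Lib.Helper45.eq_stS_of_degree (steinbergSL_irr (by norm_num)) h2]

/-- **an irreducible character of `SL_n(q)`, `n ≥ 2`, vanishing on the `p`-singular elements is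
the Steinberg character** -/
theorem eq_steinbergSL_of_vanish' (p : ℕ) [Fact p.Prime] [CharP F p] (hn : 2 ≤ n)
    (χ : Matrix.SpecialLinearGroup (Fin n) F → ℂ)
    (hχ : Cfsg.IsIrrCharacter (Matrix.SpecialLinearGroup (Fin n) F) χ)
    (hvan : ∀ g : Matrix.SpecialLinearGroup (Fin n) F, p ∣ orderOf g → χ g = 0) :
    χ = steinbergSL n F := by
  by_cases h3 : 3 ≤ n
  · exact eq_steinbergSL_of_vanish p h3 χ hχ hvan
  · obtain rfl : n = 2 := by omega
    exact eq_steinbergSL_of_vanish_two p χ hχ hvan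

end

end Cfsg.Agent.Lib.Helper47.DefChar
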