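import Mathlib
import Cfsg.Agent.Lib.Helper47.DefChar.Vanish
import Cfsg.Agent.Lib.Helper47.DefChar.RadicalSL
import Cfsg.Agent.Lib.Helper82.BlockBasic
import Cfsg.Agent.Lib.Helper82.CharSchur
import Cfsg.Agent.Lib.Helper22.DefectConj
import Cfsg.Agent.Lib.Helper81.DefectBasic
import Cfsg.Agent.S0955
import Cfsg.Agent.Lib.Helper83.Quotient
import Cfsg.Agent.Lib.Helper82.DefectZero
import Cfsg.Agent.Lib.Helper04.CoprimeDegree

set_option autoImplicit false

/-!
# The `p`-blocks of `SL_n(q)` in the defining characteristic: defects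
-/

namespace Cfsg.Agent.Lib.Helper47.DefChar

open Cfsg
open scoped MatrixGroups

section

variable {n : ℕ} {F : Type*} [Field F] [Fintype F]

/-- **every block of `SL_n(q)` in the defining characteristic has defect zero or full defect** -/
theorem blockDefect_dichotomy (p : ℕ) [Fact p.Prime] [CharP F p] (hn : 0 < n)
    (M : Ideal AlgInt) (hM : IsPModular p M)
    (B : Set (IrrCharacter (Matrix.SpecialLinearGroup (Fin n) F))) (hB : IsPBlock M B) :
    blockDefect p B = 0 ∨
      blockDefect p B = (Nat.card (Matrix.SpecialLinearGroup (Fin n) F)).factorization p := by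
  have hp := (Fact.out : p.Prime)
  obtain ⟨D, hD⟩ := Cfsg.Agent.Lib.Helper81.exists_isDefectGroup' hM hB
  have hcard := Cfsg.Agent.Lib.Helper22.IsDefectGroup.card_eq hM hB hD
  have hDp : IsPGroup p D := Cfsg.Agent.Lib.Helper81.isPGroup_of_isDefectGroup' hD
  have hS := Cfsg.Agent.S0955.result p M hM B hB D hD
  obtain ⟨g, hg, P, hP⟩ := hD
  have hgreg : ¬ p ∣ orderOf g := Cfsg.Agent.Lib.Helper22.IsDefectClass.not_dvd_orderOf hM hB hg
  have hcomm : ∀ d ∈ D, g * d = d * g := by
    intro d hd
    rw [hP] at hd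
    obtain ⟨c, _, rfl⟩ := hd
    have hc := c.2
    rw [Subgroup.mem_centralizer_iff] at hc
    exact hc g rfl
  have hrad : ∀ Q : Subgroup (Matrix.SpecialLinearGroup (Fin n) F), IsPGroup p Q →
      Q ≤ Subgroup.normalizer (D : Set (Matrix.SpecialLinearGroup (Fin n) F)) →
      (∀ h ∈ Subgroup.normalizer (D : Set (Matrix.SpecialLinearGroup (Fin n) F)),
        ∀ x ∈ Q, h * x * h⁻¹ ∈ Q) → Q ≤ D := by
    intro Q hQ hQN hQnorm
    have hnormal : (Q.subgroupOf
        (Subgroup.normalizer (D : Set (Matrix.SpecialLinearGroup (Fin n) F)))).Normal := by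
      constructor
      intro x hx h
      rw [Subgroup.mem_subgroupOf] at hx ⊢
      exact hQnorm h h.2 x hx
    have hp' : IsPGroup p (Q.subgroupOf
        (Subgroup.normalizer (D : Set (Matrix.SpecialLinearGroup (Fin n) F)))) :=
      hQ.comap_subtype
    have hle : Q.subgroupOf
        (Subgroup.normalizer (D : Set (Matrix.SpecialLinearGroup (Fin n) F))) ≤
        pCore p (Subgroup.normalizer (D : Set (Matrix.SpecialLinearGroup (Fin n) F))) :=
      le_sSup ⟨hnormal, hp'⟩
    have h1 := Subgroup.map_mono (f := (Subgroup.normalizer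
      (D : Set (Matrix.SpecialLinearGroup (Fin n) F))).subtype) hle
    rw [hS, Subgroup.map_subgroupOf_eq_of_le hQN] at h1
    exact h1
  rcases radical_dichotomy p hn D hDp hrad g hgreg hcomm with h | h
  · left
    rw [h, Subgroup.card_bot] at hcard
    rcases (Nat.pow_eq_one.mp hcard.symm) with h1 | h1
    · exact absurd h1 hp.one_lt.ne'
    · exact h1
  · right
    have hcent : Subgroup.centralizer ({g} : Set (Matrix.SpecialLinearGroup (Fin n) F)) = ⊤ := by
      rw [eq_top_iff]
      intro x _
      rw [Subgroup.mem_centralizer_iff]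
      intro y hy
      rw [Set.mem_singleton_iff] at hy
      rw [hy]
      rw [Subgroup.mem_center_iff] at h
      exact (h x).symm
    have hc1 : Nat.card (Subgroup.centralizer
        ({g} : Set (Matrix.SpecialLinearGroup (Fin n) F))) =
        Nat.card (Matrix.SpecialLinearGroup (Fin n) F) :=
      (Subgroup.card_eq_iff_eq_top _).mpr hcent
    have hc2 : Nat.card D = Nat.card (P : Subgroup (Subgroup.centralizer
        ({g} : Set (Matrix.SpecialLinearGroup (Fin n) F)))) := by
      rw [hP]
      exact Subgroup.card_subtype _ _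
    have hc3 := Sylow.card_eq_multiplicity P
    rw [hc2, hc3, hc1] at hcard
    exact (Nat.pow_right_injective hp.two_le hcard).symm

/-- the Steinberg character as an irreducible character -/
noncomputable def stIrr (n : ℕ) (F : Type*) [Field F] [Fintype F] (hn : 0 < n) :
    IrrCharacter (Matrix.SpecialLinearGroup (Fin n) F) :=
  ⟨steinbergSL n F, steinbergSL_irr hn⟩

theorem charDegree_steinbergSL :
    charDegree (steinbergSL n F) = Fintype.card F ^ (n.choose 2) :=
  Cfsg.Agent.Lib.Helper04.charDegree_eq_of_apply_one steinbergSL_one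

theorem blockOf_stIrr (p : ℕ) [Fact p.Prime] [CharP F p] (hn : 0 < n)
    (M : Ideal AlgInt) (hM : IsPModular p M) :
    blockOf M (steinbergSL n F) = {stIrr n F hn} := by
  classical
  have : Fintype (Matrix.SpecialLinearGroup (Fin n) F) := Fintype.ofFinite _
  have hp := (Fact.out : p.Prime)
  apply Cfsg.Agent.Lib.Helper82.blockOf_eq_singleton_of_not_dvd hM (stIrr n F hn)
  change ¬ p ∣ Nat.card (Matrix.SpecialLinearGroup (Fin n) F) / charDegree (steinbergSL n F)
  rw [charDegree_steinbergSL, ← pow_factorization_card_SL p hn]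
  exact Nat.not_dvd_ordCompl hp Nat.card_pos.ne'

theorem blockDefect_singleton_stIrr (p : ℕ) [Fact p.Prime] [CharP F p] (hn : 0 < n) :
    blockDefect p ({stIrr n F hn} : Set (IrrCharacter (Matrix.SpecialLinearGroup (Fin n) F))) =
      0 := by
  have hp := (Fact.out : p.Prime)
  unfold blockDefect
  rw [Set.image_singleton, csInf_singleton]
  change (Nat.card (Matrix.SpecialLinearGroup (Fin n) F)).factorization p -
    (charDegree (steinbergSL n F)).factorization p = 0
  rw [charDegree_steinbergSL, ← pow_factorization_card_SL p hn, hp.factorization_pow,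
    Finsupp.single_eq_same, Nat.sub_self]

/-- **a block of defect zero of `SL_n(q)` is the block of the Steinberg character** -/
theorem eq_singleton_of_blockDefect_zero (p : ℕ) [Fact p.Prime] [CharP F p] (hn : 2 ≤ n)
    (M : Ideal AlgInt) (hM : IsPModular p M)
    (B : Set (IrrCharacter (Matrix.SpecialLinearGroup (Fin n) F))) (hB : IsPBlock M B)
    (h0 : blockDefect p B = 0) : B = {stIrr n F (by omega)} := by
  classical
  have : Fintype (Matrix.SpecialLinearGroup (Fin n) F) := Fintype.ofFinite _
  have hp := (Fact.out : p.Prime)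
  have hprime : M.IsPrime := hM.2.1.isPrime
  obtain ⟨χ₀, rfl⟩ := hB
  have hne : ((fun χ : IrrCharacter (Matrix.SpecialLinearGroup (Fin n) F) =>
      (charDegree (χ : Matrix.SpecialLinearGroup (Fin n) F → ℂ)).factorization p) ''
      (blockOf M (χ₀ : Matrix.SpecialLinearGroup (Fin n) F → ℂ))).Nonempty :=
    ⟨_, χ₀, Cfsg.Agent.Lib.Helper82.mem_blockOf_self hprime χ₀, rfl⟩
  obtain ⟨χ, hχB, hχ⟩ := Nat.sInf_mem hne
  unfold blockDefect at h0
  rw [← hχ] at h0
  have hle : (Nat.card (Matrix.SpecialLinearGroup (Fin n) F)).factorization p ≤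
      (charDegree (χ : Matrix.SpecialLinearGroup (Fin n) F → ℂ)).factorization p :=
    Nat.sub_eq_zero_iff_le.mp h0
  have hdvd := Cfsg.Agent.Lib.Helper83.irr_charDegree_dvd_card χ
  have hnd : ¬ p ∣ Nat.card (Matrix.SpecialLinearGroup (Fin n) F) /
      charDegree (χ : Matrix.SpecialLinearGroup (Fin n) F → ℂ) := by
    obtain ⟨m, hm⟩ := hdvd
    have hcard0 : Nat.card (Matrix.SpecialLinearGroup (Fin n) F) ≠ 0 := Nat.card_pos.ne'
    have hd0 : charDegree (χ : Matrix.SpecialLinearGroup (Fin n) F → ℂ) ≠ 0 := by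
      intro h
      rw [h, zero_mul] at hm
      exact hcard0 hm
    have hm0 : m ≠ 0 := by
      intro h
      rw [h, mul_zero] at hm
      exact hcard0 hm
    rw [hm, Nat.mul_div_cancel_left _ (Nat.pos_of_ne_zero hd0)]
    intro hpm
    have h1 : (Nat.card (Matrix.SpecialLinearGroup (Fin n) F)).factorization p =
        (charDegree (χ : Matrix.SpecialLinearGroup (Fin n) F → ℂ)).factorization p +
          m.factorization p := by
      rw [hm, Nat.factorization_mul hd0 hm0]
      rfl
    have h2 : 1 ≤ m.factorization p := (hp.dvd_iff_one_le_factorization hm0).mp hpm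
    omega
  have hsing := Cfsg.Agent.Lib.Helper82.blockOf_eq_singleton_of_not_dvd hM χ hnd
  have hBeq : blockOf M (χ₀ : Matrix.SpecialLinearGroup (Fin n) F → ℂ) =
      blockOf M (χ : Matrix.SpecialLinearGroup (Fin n) F → ℂ) :=
    (Cfsg.Agent.Lib.Helper82.blockOf_eq_of_mem hprime hχB).symm
  have hvan := Cfsg.Agent.Lib.Helper82.eq_zero_of_blockOf_eq_singleton hM χ hsing
  have hχst : (χ : Matrix.SpecialLinearGroup (Fin n) F → ℂ) = steinbergSL n F :=
    eq_steinbergSL_of_vanish' p hn χ.1 χ.2 hvan
  rw [hBeq, hsing]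
  congr 1
  exact Subtype.ext hχst

/-- **the blocks of `SL_n(q)` in the defining characteristic: one of defect zero, the others of
full defect** -/
theorem blocks_SL_defining (n : ℕ) (hn : 2 ≤ n) (p : ℕ) [Fact p.Prime] [CharP F p]
    (M : Ideal AlgInt) (hM : IsPModular p M) :
    Nat.card {B : Set (IrrCharacter (Matrix.SpecialLinearGroup (Fin n) F)) //
      IsPBlock M B ∧ blockDefect p B = 0} = 1 ∧
    ∀ B : Set (IrrCharacter (Matrix.SpecialLinearGroup (Fin n) F)), IsPBlock M B →
      blockDefect p B = 0 ∨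
        blockDefect p B = (Nat.card (Matrix.SpecialLinearGroup (Fin n) F)).factorization p := by
  have hn0 : 0 < n := by omega
  refine ⟨?_, fun B hB => blockDefect_dichotomy p hn0 M hM B hB⟩
  rw [Nat.card_eq_one_iff_unique]
  constructor
  · constructor
    rintro ⟨B, hB, hB0⟩ ⟨B', hB', hB0'⟩
    apply Subtype.ext
    change B = B'
    rw [eq_singleton_of_blockDefect_zero p hn M hM B hB hB0,
      eq_singleton_of_blockDefect_zero p hn M hM B' hB' hB0']
  · refine ⟨⟨{stIrr n F hn0}, ⟨stIrr n F hn0, ?_⟩, blockDefect_singleton_stIrr p hn0⟩⟩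
    exact (blockOf_stIrr p hn0 M hM).symm

end

end Cfsg.Agent.Lib.Helper47.DefChar
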