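import Mathlib
import Cfsg.Agent.Lib.Helper47.DefChar.RadicalSL
import Cfsg.Agent.Lib.Helper47.DefChar.Whittaker

set_option autoImplicit false

/-!
# The `p`-regular elements centralising the unitriangular group are central
-/

namespace Cfsg.Agent.Lib.Helper47.DefChar

open Matrix
open Cfsg.Agent.Lib.Helper07 (UT mem_UT)

section

variable {n : ℕ} {F : Type*} [Field F]

theorem single_mem_fixW_UT (hn : 0 < n) :
    (Pi.single (⟨0, hn⟩ : Fin n) (1 : F) : Fin n → F) ∈ fixW (UT n F) := by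
  intro u hu
  rw [mem_UT] at hu
  rw [Matrix.mulVec_single_one]
  funext i
  rw [Matrix.col_apply]
  by_cases hi : i = ⟨0, hn⟩
  · rw [hi, hu.2, Pi.single_eq_same]
  · rw [Pi.single_eq_of_ne hi]
    apply hu.1
    rw [Fin.lt_def]
    have : i.val ≠ 0 := fun h => hi (Fin.ext h)
    simp only
    omega

theorem fixW_UT_apply_eq_zero (hn : 0 < n) {v : Fin n → F} (hv : v ∈ fixW (UT n F))
    {i : Fin n} (hi : i ≠ ⟨0, hn⟩) : v i = 0 := by
  have hlt : (⟨0, hn⟩ : Fin n) < i := by
    rw [Fin.lt_def]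
    have : i.val ≠ 0 := fun h => hi (Fin.ext h)
    simp only
    omega
  have h1 := hv _ (xr_mem_UT (⟨0, hn⟩ : Fin n) i hlt (1 : F))
  have h2 := congrFun h1 ⟨0, hn⟩
  rw [xr_coe, Matrix.mulVec, dotProduct] at h2
  simp_rw [transvection_apply] at h2
  simp only [add_mul, Finset.sum_add_distrib, ite_mul, one_mul, zero_mul, true_and,
    Finset.sum_ite_eq, Finset.mem_univ, if_true] at h2
  simpa using h2

theorem radR_fixW_UT_le (hn : 0 < n) : radR (fixW (UT n F)) ≤ UT n F := by
  intro x hx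
  obtain ⟨hx1, hx2⟩ := hx
  have hcol : ∀ i j : Fin n, i ≠ ⟨0, hn⟩ →
      (x : Matrix (Fin n) (Fin n) F) i j = if i = j then 1 else 0 := by
    intro i j hi
    have h1 := fixW_UT_apply_eq_zero hn (hx1 (Pi.single j 1)) hi
    rw [Matrix.mulVec_single_one, Pi.sub_apply, Matrix.col_apply, sub_eq_zero] at h1
    rw [h1, Pi.single_apply]
  rw [mem_UT]
  constructor
  · intro i j hji
    have hi : i ≠ ⟨0, hn⟩ := by
      intro h
      rw [h, Fin.lt_def] at hji
      simp only at hji
      omega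
    rw [hcol i j hi, if_neg (ne_of_gt hji)]
  · intro i
    by_cases hi : i = ⟨0, hn⟩
    · have h1 := hx2 _ (single_mem_fixW_UT (F := F) hn)
      have h2 := congrFun h1 ⟨0, hn⟩
      rw [Matrix.mulVec_single_one, Matrix.col_apply, Pi.single_eq_same] at h2
      rw [hi]
      exact h2
    · rw [hcol i i hi, if_pos rfl]

/-- **a `p`-regular element of `SL_n(q)` centralising the unitriangular group is central** -/
theorem mem_center_of_commute_UT (p : ℕ) [Fact p.Prime] [CharP F p] (hn : 2 ≤ n)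
    (g : Matrix.SpecialLinearGroup (Fin n) F) (hg : ¬ p ∣ orderOf g)
    (hcomm : ∀ u ∈ UT n F, g * u = u * g) :
    g ∈ Subgroup.center (Matrix.SpecialLinearGroup (Fin n) F) := by
  have hn0 : 0 < n := by omega
  have hw₀ := single_mem_fixW_UT (F := F) hn0
  have hw₀0 : (Pi.single (⟨0, hn0⟩ : Fin n) (1 : F) : Fin n → F) ≠ 0 := by
    intro h
    have := congrFun h ⟨0, hn0⟩
    rw [Pi.single_eq_same, Pi.zero_apply] at this
    exact one_ne_zero this
  have hv₁ : (Pi.single (⟨1, hn⟩ : Fin n) (1 : F) : Fin n → F) ∉ fixW (UT n F) := by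
    intro h
    have h1 : (⟨1, hn⟩ : Fin n) ≠ ⟨0, hn0⟩ := by
      intro h
      have := congrArg Fin.val h
      simp at this
    have := fixW_UT_apply_eq_zero hn0 h h1
    rw [Pi.single_eq_same] at this
    exact one_ne_zero this
  obtain ⟨l, hl1, hl2⟩ := scalar_of_commute_radR (fixW (UT n F)) hw₀ hw₀0 hv₁ g
    (fun x hx => hcomm x (radR_fixW_UT_le hn0 hx))
  exact mem_center_of_scalar p hn0 g hg (fixW (UT n F)) l hl1 hl2

end

end Cfsg.Agent.Lib.Helper47.DefChar
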