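import Mathlib
import Cfsg.Agent.Lib.Helper47.DefChar.BlocksSL
import Cfsg.Agent.Lib.Helper47.DefChar.CentUT
import Cfsg.Agent.S0953
import Cfsg.Agent.Lib.Helper82.VanishOffDefect
import Cfsg.Agent.Lib.Helper83.Orthogonality

set_option autoImplicit false

/-!
# The number of `p`-blocks of `SL_n(q)` in the defining characteristic
-/

namespace Cfsg.Agent.Lib.Helper47.DefChar

open Cfsg
open scoped MatrixGroups Pointwise
open Cfsg.Agent.Lib.Helper07 (UT mem_UT)

section General

variable {G : Type*} [Group G] [Finite G] {p : ℕ} [Fact p.Prime] {M : Ideal AlgInt}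

/-- a Sylow subgroup is a defect group exactly of the blocks of full defect -/
theorem isDefectGroup_sylow_iff (hM : IsPModular p M) (P : Sylow p G)
    {B : Set (IrrCharacter G)} (hB : IsPBlock M B) :
    IsDefectGroup p M B (P : Subgroup G) ↔
      blockDefect p B = (Nat.card G).factorization p := by
  have hp := (Fact.out : p.Prime)
  constructor
  · intro hP
    have h1 := Cfsg.Agent.Lib.Helper22.IsDefectGroup.card_eq hM hB hP
    have h2 := Sylow.card_eq_multiplicity P
    rw [h2] at h1
    exact (Nat.pow_right_injective hp.two_le h1).symm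
  · intro hd
    obtain ⟨D, hD⟩ := Cfsg.Agent.Lib.Helper81.exists_isDefectGroup' hM hB
    have h1 := Cfsg.Agent.Lib.Helper22.IsDefectGroup.card_eq hM hB hD
    have hDp : IsPGroup p D := Cfsg.Agent.Lib.Helper81.isPGroup_of_isDefectGroup' hD
    obtain ⟨Q, hDQ⟩ := hDp.exists_le_sylow
    have h2 := Sylow.card_eq_multiplicity Q
    have hDQ' : D = (Q : Subgroup G) := by
      apply Subgroup.eq_of_le_of_card_ge hDQ
      rw [h1, h2, hd]
    obtain ⟨s, hs⟩ := MulAction.exists_smul_eq G Q P
    have h3 := Cfsg.Agent.Lib.Helper82.isDefectGroup_conj hD s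
    have h4 : D.map (MulAut.conj s).toMonoidHom = (P : Subgroup G) := by
      rw [← hs, Sylow.coe_subgroup_smul, hDQ']
      rfl
    rw [h4] at h3
    exact h3

end General

section

variable {n : ℕ} {F : Type*} [Field F] [Fintype F]

/-- central elements of `SL_n(q)` are `p`-regular -/
theorem not_dvd_orderOf_of_mem_center (p : ℕ) [Fact p.Prime] [CharP F p] (hn : 0 < n)
    {z : Matrix.SpecialLinearGroup (Fin n) F}
    (hz : z ∈ Subgroup.center (Matrix.SpecialLinearGroup (Fin n) F)) : ¬ p ∣ orderOf z := by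
  have hp := (Fact.out : p.Prime)
  intro hdvd
  have h1 : orderOf z ∣ Nat.card (Subgroup.center (Matrix.SpecialLinearGroup (Fin n) F)) := by
    have := orderOf_dvd_natCard (⟨z, hz⟩ : Subgroup.center (Matrix.SpecialLinearGroup (Fin n) F))
    rwa [Subgroup.orderOf_mk] at this
  rw [Cfsg.Agent.Lib.Helper07.card_center_sl n hn] at h1
  have h2 : p ∣ Fintype.card F - 1 := dvd_trans hdvd (dvd_trans h1 (Nat.gcd_dvd_right _ _))
  obtain ⟨f, _, hq⟩ := FiniteField.card F p
  have h3 : p ∣ Fintype.card F := by
    rw [hq]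
    exact dvd_pow_self p f.pos.ne'
  have hq1 : 1 ≤ Fintype.card F := Fintype.card_pos
  have h4 : p ∣ 1 := by
    have := Nat.dvd_sub h3 h2
    rwa [Nat.sub_sub_self hq1] at this
  exact hp.one_lt.ne' (Nat.dvd_one.mp h4)

/-- the classes of `N(U)` consisting of `p`-regular elements centralising `U` correspond to the
centre -/
theorem card_regular_classes (p : ℕ) [Fact p.Prime] [CharP F p] (hn : 2 ≤ n)
    (P : Sylow p (Matrix.SpecialLinearGroup (Fin n) F)) (hP : (P : Subgroup _) = UT n F) :
    Nat.card {C : ConjClasses (Subgroup.normalizer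
        ((P : Subgroup (Matrix.SpecialLinearGroup (Fin n) F)) :
          Set (Matrix.SpecialLinearGroup (Fin n) F))) //
      ∀ x : Subgroup.normalizer ((P : Subgroup (Matrix.SpecialLinearGroup (Fin n) F)) :
          Set (Matrix.SpecialLinearGroup (Fin n) F)),
        ConjClasses.mk x = C → ¬ p ∣ orderOf x ∧
          (x : Matrix.SpecialLinearGroup (Fin n) F) ∈ Subgroup.centralizer
            ((P : Subgroup (Matrix.SpecialLinearGroup (Fin n) F)) :
              Set (Matrix.SpecialLinearGroup (Fin n) F))} =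
      Nat.card (Subgroup.center (Matrix.SpecialLinearGroup (Fin n) F)) := by
  have hn0 : 0 < n := by omega
  have hcN : Subgroup.center (Matrix.SpecialLinearGroup (Fin n) F) ≤
      Subgroup.normalizer ((P : Subgroup (Matrix.SpecialLinearGroup (Fin n) F)) :
          Set (Matrix.SpecialLinearGroup (Fin n) F)) :=
    le_trans (Subgroup.center_le_centralizer _) (Subgroup.centralizer_le_normalizer _)
  have hconj : ∀ (z : Matrix.SpecialLinearGroup (Fin n) F)
      (hz : z ∈ Subgroup.center (Matrix.SpecialLinearGroup (Fin n) F))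
      (x : Subgroup.normalizer ((P : Subgroup (Matrix.SpecialLinearGroup (Fin n) F)) :
          Set (Matrix.SpecialLinearGroup (Fin n) F))),
      ConjClasses.mk x = ConjClasses.mk ⟨z, hcN hz⟩ → x = ⟨z, hcN hz⟩ := by
    intro z hz x hx
    rw [ConjClasses.mk_eq_mk_iff_isConj, isConj_iff] at hx
    obtain ⟨c, hc⟩ := hx
    have h1 := congrArg Subtype.val hc
    apply Subtype.ext
    change (x : Matrix.SpecialLinearGroup (Fin n) F) = z
    have h2 : (c : Matrix.SpecialLinearGroup (Fin n) F) * x * (c : Matrix.SpecialLinearGroup (Fin n) F)⁻¹ = z := h1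
    rw [Subgroup.mem_center_iff] at hz
    have h3 : (x : Matrix.SpecialLinearGroup (Fin n) F) =
        (c : Matrix.SpecialLinearGroup (Fin n) F)⁻¹ * z * c := by
      rw [← h2]
      group
    rw [h3, mul_assoc, ← hz c, inv_mul_cancel_left]
  symm
  refine Nat.card_congr (Equiv.ofBijective (fun z => ⟨ConjClasses.mk ⟨z.1, hcN z.2⟩, ?_⟩) ⟨?_, ?_⟩)
  · intro x hx
    have hxz := hconj z.1 z.2 x hx
    constructor
    · rw [hxz, Subgroup.orderOf_mk]
      exact not_dvd_orderOf_of_mem_center p hn0 z.2
    · rw [hxz]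
      exact Subgroup.center_le_centralizer _ z.2
  · intro z z' hzz'
    have h1 := congrArg Subtype.val hzz'
    have h2 := hconj z'.1 z'.2 ⟨z.1, hcN z.2⟩ h1
    apply Subtype.ext
    have h3 := congrArg Subtype.val h2
    exact h3
  · rintro ⟨C, hC⟩
    obtain ⟨x, rfl⟩ := ConjClasses.exists_rep C
    obtain ⟨hx1, hx2⟩ := hC x rfl
    have hxc : (x : Matrix.SpecialLinearGroup (Fin n) F) ∈
        Subgroup.center (Matrix.SpecialLinearGroup (Fin n) F) := by
      apply mem_center_of_commute_UT p hn
      · rwa [Subgroup.orderOf_coe]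
      · intro u hu
        rw [Subgroup.mem_centralizer_iff] at hx2
        rw [← hP] at hu
        exact (hx2 u hu).symm
    refine ⟨⟨x, hxc⟩, ?_⟩
    apply Subtype.ext
    rfl

/-- **the number of `p`-blocks of `SL_n(q)` in the defining characteristic** -/
theorem card_blocks_SL_defining (n : ℕ) (hn : 2 ≤ n) (p : ℕ) [Fact p.Prime] [CharP F p]
    (M : Ideal AlgInt) (hM : IsPModular p M) :
    Nat.card {B : Set (IrrCharacter (Matrix.SpecialLinearGroup (Fin n) F)) // IsPBlock M B} =
      Nat.gcd n (Fintype.card F - 1) + 1 := by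
  classical
  have hp := (Fact.out : p.Prime)
  have hn0 : 0 < n := by omega
  obtain ⟨f, hf, hF⟩ := card_eq_pow_of_charP p (F := F)
  set P := Cfsg.Agent.Lib.Helper07.sylUT (n := n) p hF hf hn0 with hPdef
  have hPU : (P : Subgroup (Matrix.SpecialLinearGroup (Fin n) F)) = UT n F := rfl
  obtain ⟨h0, hdich⟩ := blocks_SL_defining (F := F) n hn p M hM
  have h1 := Cfsg.Agent.S0953.result p M hM P
  rw [card_regular_classes p hn P hPU, Cfsg.Agent.Lib.Helper07.card_center_sl n hn0] at h1
  have ha : (Nat.card (Matrix.SpecialLinearGroup (Fin n) F)).factorization p ≠ 0 := by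
    intro h
    have h2 := pow_factorization_card_SL (F := F) (n := n) p hn0
    rw [h, pow_zero] at h2
    have h3 : 1 < Fintype.card F ^ n.choose 2 := by
      apply Nat.one_lt_pow
      · have : 1 ≤ n.choose 2 := Nat.choose_pos hn
        omega
      · exact Fintype.one_lt_card
    omega
  have hset : {B : Set (IrrCharacter (Matrix.SpecialLinearGroup (Fin n) F)) | IsPBlock M B} =
      {B | IsPBlock M B ∧ blockDefect p B = 0} ∪
      {B | IsPBlock M B ∧ IsDefectGroup p M B (P : Subgroup _)} := by
    ext B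
    simp only [Set.mem_setOf_eq, Set.mem_union]
    constructor
    · intro hB
      rcases hdich B hB with h | h
      · exact Or.inl ⟨hB, h⟩
      · exact Or.inr ⟨hB, (isDefectGroup_sylow_iff hM P hB).mpr h⟩
    · rintro (h | h)
      · exact h.1
      · exact h.1
  have hdisj : Disjoint
      {B : Set (IrrCharacter (Matrix.SpecialLinearGroup (Fin n) F)) |
        IsPBlock M B ∧ blockDefect p B = 0}
      {B | IsPBlock M B ∧ IsDefectGroup p M B (P : Subgroup _)} := by
    rw [Set.disjoint_left]
    rintro B ⟨hB, hB0⟩ ⟨_, hBP⟩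
    have := (isDefectGroup_sylow_iff hM P hB).mp hBP
    rw [hB0] at this
    exact ha this.symm
  change Set.ncard {B : Set (IrrCharacter (Matrix.SpecialLinearGroup (Fin n) F)) |
    IsPBlock M B} = _
  change Set.ncard {B : Set (IrrCharacter (Matrix.SpecialLinearGroup (Fin n) F)) |
    IsPBlock M B ∧ blockDefect p B = 0} = 1 at h0
  change Set.ncard {B : Set (IrrCharacter (Matrix.SpecialLinearGroup (Fin n) F)) |
    IsPBlock M B ∧ IsDefectGroup p M B (P : Subgroup _)} = _ at h1
  rw [hset, Set.ncard_union_eq hdisj (Set.toFinite _) (Set.toFinite _), h0, h1, add_comm]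

end

end Cfsg.Agent.Lib.Helper47.DefChar
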